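import Cfsg.Agent.OddFocal.Three.Ctx
import Cfsg.Agent.OddFocal.Control
import Cfsg.Agent.LAE65.Push.Main

/-!
A minimal centrally large subgroup of the Baumann subgroup outside `O_p`: its centre contains a
least offender, and the associated pair of largest measure in `B ⊓ O_p`.
-/

set_option autoImplicit false
set_option linter.style.haveILetI false
set_option linter.unusedSectionVars false

open Cfsg Subgroup
open scoped commutatorElement

namespace Cfsg.Agent.OddFocal.Three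

open Cfsg.Agent.FFPM Cfsg.Agent.Block82

variable {p : ℕ} {G : Type*} [Group G] [Finite G] [hp : Fact p.Prime]

/-- `|C_B(P)|` computed in the subgroup `B`. -/
theorem card_centralizer_subgroupOf {B : Subgroup G} (P : Subgroup ↥B) :
    Nat.card ↥(centralizer (P : Set ↥B)) =
      Nat.card ↥(B ⊓ centralizer ((P.map B.subtype : Subgroup G) : Set G)) := by
  rw [← LAE65.Push.map_inf_centralizer (le_refl B) P, subgroupOf_self, top_inf_eq,
    card_map_of_injective B.subtype_injective]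

theorem map_centralizer_subgroupOf {B : Subgroup G} (P : Subgroup ↥B) :
    (centralizer (P : Set ↥B)).map B.subtype =
      B ⊓ centralizer ((P.map B.subtype : Subgroup G) : Set G) := by
  rw [← LAE65.Push.map_inf_centralizer (le_refl B) P, subgroupOf_self, top_inf_eq]

theorem meas_eq {B : Subgroup G} (P : Subgroup ↥B) : LAE65.meas P =
    Nat.card ↥(P.map B.subtype) *
      Nat.card ↥(B ⊓ centralizer ((P.map B.subtype : Subgroup G) : Set G)) := by
  rw [LAE65.meas, card_centralizer_subgroupOf, card_map_of_injective B.subtype_injective]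

theorem meas_subgroupOf {B P : Subgroup G} (hP : P ≤ B) : LAE65.meas (P.subgroupOf B) =
    Nat.card ↥P * Nat.card ↥(B ⊓ centralizer (P : Set G)) := by
  rw [meas_eq, map_subgroupOf_eq_of_le hP]

theorem card_sup_mul (P V : Subgroup G) [V.Normal] :
    Nat.card ↥(P ⊔ V : Subgroup G) * Nat.card ↥(P ⊓ V) = Nat.card ↥P * Nat.card ↥V := by
  rw [← LAE65.card_mul_inter P V]
  congr 1
  exact Nat.card_congr (Equiv.setCongr (mul_normal P V).symm) |>.symm

theorem inf_centralizer_sup_left (P R : Subgroup G) :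
    centralizer ((P ⊔ R : Subgroup G) : Set G) = centralizer (P : Set G) ⊓ centralizer (R : Set G) :=
  LAE65.centralizer_sup P R

variable {T : Sylow p G} {M : Subgroup G} {q : ℕ} (h : Ctx0 T M q)
include h

local notation "𝐁" => baumannSubgroupOf p (T : Subgroup G)
local notation "𝐇" => baumannSubgroupOf p (T : Subgroup G) ⊓ pCore p G

theorem om_le_H : Om p G ≤ 𝐇 := le_sup_left.trans h.Y_le_inf_core

theorem H_le_cent : 𝐇 ≤ centralizer (Om p G : Set G) := inf_le_right.trans pCore_le_cen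

theorem inf_cen_eq {P : Subgroup G} (hP : P ≤ 𝐁) : P ⊓ cen p G = P ⊓ 𝐇 := by
  refine le_antisymm (le_inf inf_le_left fun x hx => ⟨hP hx.1, ?_⟩)
    (inf_le_inf_left P (inf_le_right.trans pCore_le_cen))
  exact h.inf_cen_T.le ⟨LAE65.Block.baumann_le _ (hP hx.1), hx.2⟩

theorem card_bar_mul {P : Subgroup G} (hP : P ≤ 𝐁) :
    Nat.card ↥(P.map (pr p)) * Nat.card ↥(P ⊓ 𝐇) = Nat.card ↥P := by
  rw [← inf_cen_eq h hP, ← card_map_mul]

/-- No over-offenders inside the Baumann subgroup. -/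
theorem bar_mul_fix_le {P : Subgroup G} (hP : P ≤ 𝐁) :
    Nat.card ↥(P.map (pr p)) * Nat.card ↥(Om p G ⊓ centralizer (P : Set G)) ≤
      Nat.card ↥(Om p G) := by
  have h1 := h.conf.no_over _ (quad_mono h.quad_roots ((Subgroup.map_mono hP).trans h.map_B.le))
  rwa [FFPM.mu, card_fix_map, show Nat.card (Mod p G) = Nat.card ↥(Om p G) from
    Nat.card_congr Additive.toMul] at h1

/-- The data produced by counting. -/
theorem exists_data : ∀ (R₀ : Subgroup ↥(𝐁)), IsMinimalCentrallyLarge R₀ →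
    ¬ R₀.map (𝐁).subtype ≤ pCore p G →
    ∃ (U : Subgroup (Bar p G)) (A F₁ F₀ : Subgroup G), U ∈ mems (Mod p G) q (Tbar T) 1 ∧
      A ≤ 𝐁 ∧ A.map (pr p) = U ∧ F₀ ≤ F₁ ∧ F₁ ≤ 𝐇 ∧ Om p G ≤ F₀ ∧
      (∀ a ∈ A, ∀ f ∈ F₁, ⁅a, f⁆ ∈ Om p G) ∧
      IsCentralizerLarge (F₁.subgroupOf 𝐇) ∧
      F₀.subgroupOf 𝐇 = centralizer ((F₁.subgroupOf 𝐇 : Subgroup ↥(𝐇)) : Set ↥(𝐇)) := by
  set B := baumannSubgroupOf p (T : Subgroup G) with hB
  set H := B ⊓ pCore p G with hH
  set V := Om p G with hV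
  intro R₀ hR₀ hR
  obtain ⟨hRm, hRC⟩ := LAE65.cl_iff.1 hR₀.1
  set R := R₀.map B.subtype with hRdef
  have hRB : R ≤ B := map_subtype_le _
  set A₁ := B ⊓ centralizer (R : Set G) with hA₁
  have hA₁R : A₁ ≤ R := by
    rw [hA₁, hRdef, ← map_centralizer_subgroupOf R₀]; exact Subgroup.map_mono hRC
  set f := Nat.card ↥R * Nat.card ↥A₁ with hf
  have hfmax : maxCentralizerProduct ↥B = f := by
    have h1 : Nat.card ↥R₀ * Nat.card ↥(centralizer (R₀ : Set ↥B)) = maxCentralizerProduct ↥B := hRm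
    rw [← h1]
    exact meas_eq R₀
  have hmeas : ∀ P ≤ B, Nat.card ↥P * Nat.card ↥(B ⊓ centralizer (P : Set G)) ≤ f :=
    fun P hP => hfmax ▸ meas_subgroupOf hP ▸ LAE65.meas_le _
  have hVH : V ≤ H := om_le_H h
  have hVB : V ≤ B := hVH.trans inf_le_left
  have hHV : H ≤ centralizer (V : Set G) := H_le_cent h
  have hVcH : V ≤ centralizer (H : Set G) := le_centralizer_iff.1 hHV
  have hAV : A₁ ⊓ V = V ⊓ centralizer (R : Set G) :=
    le_antisymm (fun x hx => ⟨hx.2, hx.1.2⟩) fun x hx => ⟨⟨hVB hx.1, hx.2⟩, hx.1⟩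
  have hRbar := bar_mul_fix_le h hRB
  rw [← hAV] at hRbar
  -- the centre is not contained in `H`
  have hAH : ¬ A₁ ≤ H := by
    intro hle
    have e1 : B ⊓ centralizer ((R ⊔ V : Subgroup G) : Set G) = A₁ := by
      rw [LAE65.centralizer_sup, ← inf_assoc, ← hA₁, inf_eq_left]
      exact hle.trans hHV
    have h1 := hmeas (R ⊔ V) (sup_le hRB hVB)
    rw [e1, hf] at h1
    have hVR : V ≤ R := le_sup_right.trans (Subgroup.eq_of_le_of_card_ge le_sup_left
      (Nat.le_of_mul_le_mul_right h1 Nat.card_pos)).ge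
    set R' := R ⊓ H with hR'
    have hR'B : R' ≤ B := inf_le_left.trans hRB
    have hAVle : A₁ ⊔ V ≤ B ⊓ centralizer (R' : Set G) := sup_le
      (le_inf inf_le_left (inf_le_right.trans (centralizer_le inf_le_left)))
      (le_inf hVB (hVcH.trans (centralizer_le inf_le_right)))
    have h2 := card_sup_mul A₁ V
    have h3 : f ≤ Nat.card ↥R' * Nat.card ↥(A₁ ⊔ V : Subgroup G) := by
      refine Nat.le_of_mul_le_mul_right (?_ : f * Nat.card ↥(A₁ ⊓ V) ≤ _) Nat.card_pos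
      rw [mul_assoc (Nat.card ↥R'), h2, hf, ← card_bar_mul h hRB]
      calc Nat.card ↥(R.map (pr p)) * Nat.card ↥R' * Nat.card ↥A₁ * Nat.card ↥(A₁ ⊓ V)
          = Nat.card ↥R' * (Nat.card ↥A₁ *
            (Nat.card ↥(R.map (pr p)) * Nat.card ↥(A₁ ⊓ V))) := by ring
        _ ≤ _ := by gcongr
    have h4 := hmeas R' hR'B
    have h5 : Nat.card ↥(B ⊓ centralizer (R' : Set G)) ≤ Nat.card ↥(A₁ ⊔ V : Subgroup G) :=
      Nat.le_of_mul_le_mul_left (h4.trans h3) Nat.card_pos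
    have e2 := Subgroup.eq_of_le_of_card_ge hAVle h5
    have hcl : IsCentrallyLarge (R'.subgroupOf B) := by
      refine LAE65.cl_iff.2 ⟨LAE65.meas_max_of_le ?_, ?_⟩
      · rw [meas_subgroupOf hR'B, hfmax, ← e2]; exact h3
      · rw [← map_subtype_le_map_subtype, map_centralizer_subgroupOf,
          map_subgroupOf_eq_of_le hR'B, ← e2]
        exact sup_le (le_inf hA₁R hle) (le_inf hVR hVH)
    have h6 := hR₀.2 _ (by
      rw [← map_subtype_le_map_subtype, map_subgroupOf_eq_of_le hR'B]; exact inf_le_left) hcl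
    have h7 : R' = R := by rw [← map_subgroupOf_eq_of_le hR'B, h6]
    exact hR ((inf_eq_left.1 h7).trans inf_le_right)
  -- the centre is an offender
  have hA₁B : A₁ ≤ B := inf_le_left
  have hA₁c : ∀ a ∈ A₁, ∀ r ∈ R, a * r = r * a := fun a ha r hr =>
    (mem_centralizer_iff.1 ha.2 r hr).symm
  have hne : A₁.map (pr p) ≠ ⊥ := fun e => hAH (by
    rw [Subgroup.map_eq_bot_iff, QuotientGroup.ker_mk'] at e
    exact inf_eq_left.1 ((inf_cen_eq h hA₁B).symm.trans (inf_eq_left.2 e)))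
  have hRVle : A₁ ⊓ H ≤ B ⊓ centralizer ((R ⊔ V : Subgroup G) : Set G) := by
    rw [LAE65.centralizer_sup]
    exact le_inf (inf_le_left.trans inf_le_left)
      (le_inf (inf_le_left.trans inf_le_right) (inf_le_right.trans hHV))
  have hb : Nat.card ↥V ≤ Nat.card ↥(A₁.map (pr p)) * Nat.card ↥(R ⊓ V) := by
    have h1 := (Nat.mul_le_mul_left _ (Subgroup.card_le_of_le hRVle)).trans
      (hmeas (R ⊔ V) (sup_le hRB hVB))
    have h2 := card_sup_mul R V
    rw [hf, ← card_bar_mul h hA₁B] at h1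
    refine Nat.le_of_mul_le_mul_left (c := Nat.card ↥R * Nat.card ↥(A₁ ⊓ H)) ?_
      (Nat.mul_pos Nat.card_pos Nat.card_pos)
    calc Nat.card ↥R * Nat.card ↥(A₁ ⊓ H) * Nat.card ↥V
        = Nat.card ↥(R ⊔ V : Subgroup G) * Nat.card ↥(A₁ ⊓ H) * Nat.card ↥(R ⊓ V) := by
          rw [mul_right_comm (Nat.card ↥R), ← h2]; ring
      _ ≤ Nat.card ↥R * (Nat.card ↥(A₁.map (pr p)) * Nat.card ↥(A₁ ⊓ H)) *
          Nat.card ↥(R ⊓ V) := Nat.mul_le_mul_right _ h1
      _ = _ := by ring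
  have hRVA : R ⊓ V ≤ V ⊓ centralizer (A₁ : Set G) := fun x hx => ⟨hx.2,
    mem_centralizer_iff.2 fun a ha => hA₁c a ha x hx.1⟩
  have hAbar := bar_mul_fix_le h hA₁B
  have heq : Nat.card ↥(A₁.map (pr p)) * Nat.card ↥(R ⊓ V) = Nat.card ↥V :=
    le_antisymm ((Nat.mul_le_mul_left _ (Subgroup.card_le_of_le hRVA)).trans hAbar) hb
  have hoff : Nat.card (Mod p G) ≤ FFPM.mu (Mod p G) (A₁.map (pr p)) := by
    rw [FFPM.mu, card_fix_map]
    refine le_of_eq_of_le (Nat.card_congr Additive.toMul) (hb.trans ?_)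
    exact Nat.mul_le_mul_left _ (Subgroup.card_le_of_le hRVA)
  obtain ⟨U, hU, hUA⟩ := h.conf.offender_exists
    ((T.isPGroup'.to_le (hA₁B.trans (LAE65.Block.baumann_le _))).map (pr p)) (by
      rintro _ ⟨a, ha, rfl⟩ _ ⟨b, hb', rfl⟩
      rw [← map_mul, ← map_mul, hA₁c a ha b (hA₁R hb')]) hne hoff
  set A := A₁ ⊓ U.comap (pr p) with hA
  have hAmap : A.map (pr p) = U := by
    refine le_antisymm (map_le_iff_le_comap.2 inf_le_right) fun u hu => ?_
    obtain ⟨a, ha, rfl⟩ := hUA hu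
    exact ⟨a, ⟨ha, hu⟩, rfl⟩
  set F₁ := (R ⊓ H) ⊔ V with hF₁
  set F₀ := (A₁ ⊓ H) ⊔ V with hF₀
  have hF₁H : F₁ ≤ H := sup_le inf_le_right hVH
  have hF01 : F₀ ≤ F₁ := sup_le_sup_right (inf_le_inf_right H hA₁R) V
  refine ⟨U, A, F₁, F₀, ⟨hU, ?_⟩, inf_le_left.trans hA₁B, hAmap, hF01, hF₁H, le_sup_right, ?_, ?_⟩
  · rw [FFSL2.cj_one, Tbar_eq]
    exact hUA.trans (Subgroup.map_mono (hA₁B.trans (LAE65.Block.baumann_le _)))
  · intro a ha x hx
    obtain ⟨r, hr, v, hv, rfl⟩ := Subgroup.mem_sup_of_normal_right.1 hx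
    rw [show ⁅a, r * v⁆ = ⁅a, r⁆ * (r * ⁅a, v⁆ * r⁻¹) by simp only [commutatorElement_def]; group,
      commutatorElement_eq_one_iff_mul_comm.2 (hA₁c a ha.1 r hr.1), one_mul]
    refine (om_normal p G).conj_mem _ ?_ r
    rw [commutatorElement_def]
    exact mul_mem ((om_normal p G).conj_mem v hv a) (inv_mem hv)
  -- largeness
  have hF₀c : F₀ ≤ H ⊓ centralizer (F₁ : Set G) := by
    rw [hF₁, LAE65.centralizer_sup]
    refine le_inf (hF01.trans hF₁H) (le_inf ?_ ((hF01.trans hF₁H).trans hHV))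
    exact sup_le (inf_le_left.trans (inf_le_right.trans (centralizer_le inf_le_left)))
      (hVcH.trans (centralizer_le inf_le_right))
  have hge : f ≤ Nat.card ↥F₁ * Nat.card ↥F₀ := by
    have h1 := card_sup_mul (R ⊓ H) V
    have h2 := card_sup_mul (A₁ ⊓ H) V
    rw [← hF₁, show R ⊓ H ⊓ V = R ⊓ V by rw [inf_assoc, inf_eq_right.2 hVH]] at h1
    rw [← hF₀, show A₁ ⊓ H ⊓ V = A₁ ⊓ V by rw [inf_assoc, inf_eq_right.2 hVH]] at h2
    refine Nat.le_of_mul_le_mul_right (c := Nat.card ↥(R ⊓ V) * Nat.card ↥(A₁ ⊓ V)) ?_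
      (Nat.mul_pos Nat.card_pos Nat.card_pos)
    calc f * (Nat.card ↥(R ⊓ V) * Nat.card ↥(A₁ ⊓ V))
        = Nat.card ↥(R ⊓ H) * Nat.card ↥(A₁ ⊓ H) *
          ((Nat.card ↥(A₁.map (pr p)) * Nat.card ↥(R ⊓ V)) *
            (Nat.card ↥(R.map (pr p)) * Nat.card ↥(A₁ ⊓ V))) := by
          rw [hf, ← card_bar_mul h hRB, ← card_bar_mul h hA₁B]; ring
      _ ≤ Nat.card ↥(R ⊓ H) * Nat.card ↥(A₁ ⊓ H) * (Nat.card ↥V * Nat.card ↥V) := by
          rw [heq]; gcongr
      _ = (Nat.card ↥(R ⊓ H) * Nat.card ↥V) * (Nat.card ↥(A₁ ⊓ H) * Nat.card ↥V) := by ring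
      _ = _ := by rw [← h1, ← h2]; ring
  have hle : Nat.card ↥F₁ * Nat.card ↥(H ⊓ centralizer (F₁ : Set G)) ≤ f :=
    (Nat.mul_le_mul_left _ (Subgroup.card_le_of_le (inf_le_inf_right _ inf_le_left))).trans
      (hmeas F₁ (hF₁H.trans inf_le_left))
  have e0 : F₀ = H ⊓ centralizer (F₁ : Set G) := Subgroup.eq_of_le_of_card_ge hF₀c
    (Nat.le_of_mul_le_mul_left (hle.trans hge) Nat.card_pos)
  refine ⟨LAE65.meas_max_of_le ?_, ?_⟩
  · obtain ⟨P₀, hP₀⟩ := LAE65.exists_meas_max (P := ↥H)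
    have eP : LAE65.meas P₀ = maxCentralizerProduct ↥H := hP₀
    rw [← eP, meas_subgroupOf hF₁H, ← e0, meas_eq]
    refine le_trans ?_ hge
    exact (Nat.mul_le_mul_left _ (Subgroup.card_le_of_le (inf_le_inf_right _ inf_le_left))).trans
      (hmeas _ ((map_subtype_le _).trans inf_le_left))
  · apply map_injective H.subtype_injective
    rw [map_centralizer_subgroupOf, map_subgroupOf_eq_of_le hF₁H,
      map_subgroupOf_eq_of_le (hF01.trans hF₁H), ← e0]

end Cfsg.Agent.OddFocal.Three
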