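import Cfsg.Agent.OddFocal.Quad

/-!
Minimal invariant sections below a given one, and quadratic action on all of them.
-/

set_option autoImplicit false
set_option linter.unusedSectionVars false
set_option linter.style.haveILetI false

open Subgroup Cfsg
open scoped commutatorElement

namespace Cfsg.Agent.OddFocal.Three

open ConjFunctor

variable {G : Type*} [Group G] [Finite G]

theorem nrm_inf_le (X Y : Subgroup G) : nrm X ⊓ nrm Y ≤ nrm (X ⊓ Y) := fun g hg =>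
  mem_nrm_of_forall fun x hx => ⟨conj_mem_of_nrm hg.1 hx.1, conj_mem_of_nrm hg.2 hx.2⟩

theorem nrm_sup_le (X Y : Subgroup G) : nrm X ⊓ nrm Y ≤ nrm (X ⊔ Y) := fun g hg => by
  rw [mem_nrm_iff_cnj]
  show (X ⊔ Y).map (MulAut.conj g).toMonoidHom = X ⊔ Y
  rw [Subgroup.map_sup]
  exact congrArg₂ (· ⊔ ·) (mem_nrm_iff_cnj.1 hg.1) (mem_nrm_iff_cnj.1 hg.2)

theorem comm_mem_self {D : Subgroup G} {d k : G} (hd : d ∈ D) (hk : k ∈ nrm D) : ⁅d, k⁆ ∈ D := by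
  have e : ⁅d, k⁆ = d * (k * d⁻¹ * k⁻¹) := by rw [commutatorElement_def]; group
  rw [e]; exact D.mul_mem hd (conj_mem_of_nrm hk (D.inv_mem hd))

theorem exists_mul_of_le_nrm {D W : Subgroup G} (h : D ≤ nrm W) {x : G} (hx : x ∈ D ⊔ W) :
    ∃ d ∈ D, ∃ w ∈ W, x = d * w := by
  rw [← SetLike.mem_coe, Subgroup.coe_mul_of_left_le_normalizer_right D W h] at hx
  obtain ⟨d, hd, w, hw, h⟩ := Set.mem_mul.1 hx
  exact ⟨d, hd, w, hw, h.symm⟩

/-- A minimal `L`-invariant abelian section on which `L ⊓ C` acts trivially. -/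
structure Sec (p : ℕ) (L C P W : Subgroup G) : Prop where
  lt : W < P
  normP : L ≤ nrm P
  normW : L ≤ nrm W
  comm : ⁅P, P⁆ ≤ W
  isP : IsPGroup p ↥P
  min : ∀ Y : Subgroup G, W ≤ Y → Y ≤ P → L ≤ nrm Y → Y = W ∨ Y = P
  triv : ⁅P, L ⊓ C⁆ ≤ W

/-- Quadratic action of the elements of `A`. -/
def Quad2 (A P W : Subgroup G) : Prop := ∀ a ∈ A, ∀ x ∈ P, ⁅⁅x, a⁆, a⁆ ∈ W

/-- All minimal sections lying between `D'` and `D` are quadratic. -/
def Rel (p : ℕ) (L C A D D' : Subgroup G) : Prop :=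
  ∀ P W : Subgroup G, Sec p L C P W → P ≤ (P ⊓ D) ⊔ W → P ⊓ D' ≤ W → Quad2 A P W

variable {p : ℕ} {L C A P W D D' : Subgroup G}

namespace Sec

theorem le_nrm (h : Sec p L C P W) : P ≤ nrm W := le_nrm_of_commutator_le h.lt.le h.comm

theorem dich (h : Sec p L C P W) (hD : L ≤ nrm D) : P ≤ (P ⊓ D) ⊔ W ∨ P ⊓ D ≤ W := by
  have h1 : L ≤ nrm ((P ⊓ D) ⊔ W) :=
    (le_inf ((le_inf h.normP hD).trans (nrm_inf_le _ _)) h.normW).trans (nrm_sup_le _ _)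
  rcases h.min _ le_sup_right (sup_le inf_le_left h.lt.le) h1 with e | e
  · exact Or.inr (le_sup_left.trans e.le)
  · exact Or.inl e.ge

theorem restrict (h : Sec p L C P W) (hD : L ≤ nrm D) (hc : P ≤ (P ⊓ D) ⊔ W) :
    Sec p L C (P ⊓ D) (W ⊓ D) := by
  have hPD : L ≤ nrm (P ⊓ D) := (le_inf h.normP hD).trans (nrm_inf_le _ _)
  refine ⟨lt_of_le_of_ne (inf_le_inf_right D h.lt.le) fun e => h.lt.not_ge ?_, hPD,
    (le_inf h.normW hD).trans (nrm_inf_le _ _), le_inf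
      ((commutator_mono inf_le_left inf_le_left).trans h.comm)
      ((commutator_mono inf_le_right inf_le_right).trans (commutator_le_self D)),
    h.isP.to_le inf_le_left, fun Y hWY hYP hY => ?_, ?_⟩
  · exact hc.trans (sup_le (e.ge.trans inf_le_left) le_rfl)
  · rcases h.min (Y ⊔ W) le_sup_right (sup_le (hYP.trans inf_le_left) h.lt.le)
      ((le_inf hY h.normW).trans (nrm_sup_le _ _)) with e | e
    · exact Or.inl (le_antisymm (le_inf (le_sup_left.trans e.le) (hYP.trans inf_le_right)) hWY)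
    · refine Or.inr (le_antisymm hYP fun d hd => ?_)
      obtain ⟨y, hy, w, hw, rfl⟩ := exists_mul_of_le_nrm
        ((hYP.trans inf_le_left).trans h.le_nrm) (e.ge hd.1)
      refine Y.mul_mem hy (hWY ⟨hw, ?_⟩)
      exact (D.mul_mem_cancel_left (hYP hy).2).1 hd.2
  · rw [commutator_le]
    exact fun d hd k hk => ⟨h.triv (commutator_mem_commutator hd.1 hk),
      comm_mem_self hd.2 (hD hk.1)⟩

theorem quad_restrict (h : Sec p L C P W) (hAL : A ≤ L) (hc : P ≤ (P ⊓ D) ⊔ W)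
    (hq : Quad2 A (P ⊓ D) (W ⊓ D)) : Quad2 A P W := by
  intro a ha x hx
  obtain ⟨d, hd, w, hw, rfl⟩ := exists_mul_of_le_nrm (inf_le_left.trans h.le_nrm) (hc hx)
  have haW : a ∈ nrm W := h.normW (hAL ha)
  have hdW : d ∈ nrm W := h.le_nrm hd.1
  have h1 : d * ⁅w, a⁆ * d⁻¹ ∈ W := conj_mem_of_nrm hdW (comm_mem_self hw haW)
  have e : ⁅d * w, a⁆ = (d * ⁅w, a⁆ * d⁻¹) * ⁅d, a⁆ := by
    simp only [commutatorElement_def]; group
  have e2 : ∀ s t : G, ⁅s * t, a⁆ = s * ⁅t, a⁆ * s⁻¹ * ⁅s, a⁆ := fun s t => by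
    simp only [commutatorElement_def]; group
  rw [e, e2]
  exact W.mul_mem (W.mul_mem (W.mul_mem h1 (hq a ha d hd).1) (W.inv_mem h1))
    (comm_mem_self h1 haW)

end Sec

theorem Rel.of_le (h : D ≤ D') : Rel p L C A D D' := fun P W hs hc hD' =>
  absurd (hc.trans (sup_le ((inf_le_inf_left P h).trans hD') le_rfl)) hs.lt.not_ge

theorem Rel.mono {D₁ D₁' : Subgroup G} (hrel : Rel p L C A D D') (hAL : A ≤ L) (hle : D₁ ≤ D)
    (hinf : D₁ ⊓ D' ≤ D₁') (hn : L ≤ nrm D₁) : Rel p L C A D₁ D₁' := by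
  intro P W hs hc hD'
  refine hs.quad_restrict hAL hc (hrel _ _ (hs.restrict hn hc) ?_ ?_)
  · exact le_sup_of_le_left (le_inf le_rfl (inf_le_right.trans hle))
  · exact le_inf ((le_inf (inf_le_left.trans inf_le_left)
      ((inf_le_inf_right D' inf_le_right).trans hinf)).trans hD') (inf_le_left.trans inf_le_right)

theorem Rel.trans {D'' : Subgroup G} (h1 : Rel p L C A D D') (h2 : Rel p L C A D' D'')
    (hn : L ≤ nrm D') : Rel p L C A D D'' := by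
  intro P W hs hc hD''
  rcases hs.dich hn with h | h
  · exact h2 P W hs h hD''
  · exact h1 P W hs hc h

/-- Sections pass along equivariant maps into another section. -/
theorem Rel.of_hom {E E' : Subgroup G} [E'.Normal] (hrel : Rel p L C A E E') (hAL : A ≤ L)
    (hD : L ≤ nrm D) (hEE : E' ≤ E) (hEp : IsPGroup p ↥E) (φ : G → G)
    (hmem : ∀ d ∈ D, φ d ∈ E) (hmul : ∀ d ∈ D, ∀ d' ∈ D, (φ d * φ d')⁻¹ * φ (d * d') ∈ E')
    (hL : ∀ l ∈ L, ∀ d ∈ D, (l * φ d * l⁻¹)⁻¹ * φ (l * d * l⁻¹) ∈ E')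
    (hker : ∀ d ∈ D, φ d ∈ E' → d ∈ D') : Rel p L C A D D' := by
  intro P₀ W₀ hs₀ hc₀ hD'
  refine hs₀.quad_restrict hAL hc₀ ?_
  have hs := hs₀.restrict hD hc₀
  set P := P₀ ⊓ D with hP
  set W := W₀ ⊓ D with hW
  set π := QuotientGroup.mk' E' with hπ
  let ψ : ↥D →* G ⧸ E' := MonoidHom.mk' (fun d => π (φ d)) fun d d' =>
    (show π (φ (d * d' : ↥D)) = π (φ d) * π (φ d') by
      rw [← map_mul]; exact (QuotientGroup.eq.2 (hmul d d.2 d' d'.2)).symm)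
  have hψL : ∀ l ∈ L, ∀ (d : ↥D) (hd : l * (d : G) * l⁻¹ ∈ D),
      ψ ⟨_, hd⟩ = π l * ψ d * (π l)⁻¹ := fun l hl d hd => by
    show π (φ (l * d * l⁻¹)) = π l * π (φ d) * (π l)⁻¹
    rw [← map_inv, ← map_mul, ← map_mul]
    exact (QuotientGroup.eq.2 (hL l hl d d.2)).symm
  have hψk : ∀ d : ↥D, ψ d = 1 → (d : G) ∈ D' := fun d h =>
    hker d d.2 ((QuotientGroup.eq_one_iff (φ d)).1 h)
  -- the images
  let im : Subgroup G → Subgroup G := fun X => ((X.subgroupOf D).map ψ).comap π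
  have him : ∀ {X : Subgroup G} {y : G}, y ∈ im X ↔ ∃ d : ↥D, (d : G) ∈ X ∧ ψ d = π y := by
    intro X y
    exact ⟨fun ⟨d, hd, e⟩ => ⟨d, hd, e⟩, fun ⟨d, hd, e⟩ => ⟨d, hd, e⟩⟩
  have himn : ∀ {X : Subgroup G}, L ≤ nrm X → L ≤ nrm (im X) := by
    intro X hX l hl
    refine mem_nrm_of_forall fun y hy => ?_
    obtain ⟨d, hd, e⟩ := him.1 hy
    refine him.2 ⟨⟨_, conj_mem_of_nrm (hD hl) d.2⟩, conj_mem_of_nrm (hX hl) hd, ?_⟩
    rw [hψL l hl d _, e, map_mul, map_mul, map_inv]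
  have hE'im : ∀ X : Subgroup G, E' ≤ im X := fun X e he => him.2 ⟨1, X.one_mem, by
    rw [map_one]; exact ((QuotientGroup.eq_one_iff e).2 he).symm⟩
  have himE : ∀ X : Subgroup G, im X ≤ E := by
    intro X y hy
    obtain ⟨d, -, e⟩ := him.1 hy
    have h1 : (φ d)⁻¹ * y ∈ E' := QuotientGroup.eq.1 e
    exact (E.mul_mem_cancel_left (E.inv_mem (hmem d d.2))).1 (hEE h1)
  have hmono : im W ≤ im P := comap_mono (map_mono (comap_mono hs.lt.le))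
  have hlt : ¬ im P ≤ im W := fun hle => hs.lt.not_ge fun d hd => by
    obtain ⟨w, hw, e⟩ := him.1 (hle (him.2 ⟨⟨d, hd.2⟩, hd, rfl⟩ : φ d ∈ im P))
    have h1 : ((w⁻¹ * ⟨d, hd.2⟩ : ↥D) : G) ∈ D' := hψk _ (by rw [map_mul, map_inv, e]; exact inv_mul_cancel _)
    have h2 : (w : G)⁻¹ * d ∈ W := ⟨hD' ⟨(P₀.mul_mem (P₀.inv_mem (hs₀.lt.le hw.1)) hd.1), h1⟩,
      D.mul_mem (D.inv_mem w.2) hd.2⟩
    exact (W.mul_mem_cancel_left (W.inv_mem hw)).1 h2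
  have hsec : Sec p L C (im P) (im W) := by
    refine ⟨lt_of_le_not_ge hmono hlt, himn hs.normP, himn hs.normW, ?_, hEp.to_le (himE P),
      fun Y hWY hYP hY => ?_, ?_⟩
    · rw [commutator_le]
      intro y hy y' hy'
      obtain ⟨d, hd, e⟩ := him.1 hy
      obtain ⟨d', hd', e'⟩ := him.1 hy'
      refine him.2 ⟨⁅d, d'⁆, ?_, by rw [map_commutatorElement, e, e', map_commutatorElement]⟩
      rw [show ((⁅d, d'⁆ : ↥D) : G) = ⁅(d : G), (d' : G)⁆ from rfl]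
      exact hs.comm (commutator_mem_commutator hd hd')
    · set Z : Subgroup G := P ⊓ ((Y.map π).comap ψ).map D.subtype with hZ
      have hmemZ : ∀ {d : ↥D}, (d : G) ∈ P → ψ d ∈ Y.map π → (d : G) ∈ Z := fun hd h =>
        ⟨hd, _, h, rfl⟩
      have hWZ : W ≤ Z := fun w hw => hmemZ (d := ⟨w, hw.2⟩) (hs.lt.le hw)
        ⟨φ w, hWY (him.2 ⟨⟨w, hw.2⟩, hw, rfl⟩), rfl⟩
      have hZn : L ≤ nrm Z := by
        intro l hl
        refine mem_nrm_of_forall ?_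
        rintro _ ⟨hx, d, ⟨y, hy, e⟩, rfl⟩
        refine hmemZ (d := ⟨_, conj_mem_of_nrm (hD hl) d.2⟩) (conj_mem_of_nrm (hs.normP hl) hx) ?_
        rw [hψL l hl d _, ← e, ← map_inv, ← map_mul, ← map_mul]
        exact mem_map_of_mem π (conj_mem_of_nrm (hY hl) hy)
      have hback : ∀ y ∈ Y, ∃ d : ↥D, (d : G) ∈ Z ∧ ψ d = π y := fun y hy => by
        obtain ⟨d, hd, e⟩ := him.1 (hYP hy)
        exact ⟨d, hmemZ hd (e ▸ mem_map_of_mem π hy), e⟩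
      rcases hs.min Z hWZ inf_le_left hZn with h | h
      · refine Or.inl (le_antisymm (fun y hy => ?_) hWY)
        obtain ⟨d, hd, e⟩ := hback y hy
        exact him.2 ⟨d, h ▸ hd, e⟩
      · refine Or.inr (le_antisymm hYP fun y hy => ?_)
        obtain ⟨d, hd, e⟩ := him.1 hy
        obtain ⟨-, d', ⟨y', hy', e'⟩, hdd⟩ := h.ge hd
        obtain rfl : d' = d := Subtype.ext hdd
        have h1 : y'⁻¹ * y ∈ E' := QuotientGroup.eq.1 (e'.trans e)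
        exact (Y.mul_mem_cancel_left (Y.inv_mem hy')).1 (hWY (hE'im W h1))
    · rw [commutator_le]
      intro y hy k hk
      obtain ⟨d, hd, e⟩ := him.1 hy
      refine him.2 ⟨⟨⁅(d : G), k⁆, comm_mem_self d.2 (hD hk.1)⟩,
        hs.triv (commutator_mem_commutator hd hk), ?_⟩
      have e1 : (⟨⁅(d : G), k⁆, comm_mem_self d.2 (hD hk.1)⟩ : ↥D) =
          d * ⟨k * ((d⁻¹ : ↥D) : G) * k⁻¹, conj_mem_of_nrm (hD hk.1) (d⁻¹).2⟩ := Subtype.ext (by
        show ⁅(d : G), k⁆ = (d : G) * (k * ((d : G))⁻¹ * k⁻¹)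
        rw [commutatorElement_def]; group)
      rw [e1, map_mul, hψL k hk.1 d⁻¹ _, map_inv, e, commutatorElement_def]
      simp [mul_assoc]
  have hq := hrel _ _ hsec (le_sup_of_le_left (le_inf le_rfl (himE P)))
    (inf_le_right.trans (hE'im W))
  intro a ha x hx
  have hxD : x ∈ D := hx.2
  obtain ⟨w, hw, e⟩ := him.1 (hq a ha (φ x) (him.2 ⟨⟨x, hxD⟩, hx, rfl⟩))
  have haD := hD (hAL ha)
  have ec : ∀ (d : ↥D) (hc : ⁅(d : G), a⁆ ∈ D), ψ ⟨_, hc⟩ = ⁅ψ d, π a⁆ := by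
    intro d hc
    have e1 : (⟨⁅(d : G), a⁆, hc⟩ : ↥D) = d * ⟨a * ((d⁻¹ : ↥D) : G) * a⁻¹,
        conj_mem_of_nrm haD (d⁻¹).2⟩ := Subtype.ext (by
      show ⁅(d : G), a⁆ = (d : G) * (a * ((d : G))⁻¹ * a⁻¹)
      rw [commutatorElement_def]; group)
    rw [e1, map_mul, hψL a (hAL ha) d⁻¹ _, map_inv, commutatorElement_def]
    simp [mul_assoc]
  have h1 : ⁅x, a⁆ ∈ D := comm_mem_self hxD haD
  have h2 : ⁅⁅x, a⁆, a⁆ ∈ D := comm_mem_self h1 haD
  have e2 : ψ ⟨_, h2⟩ = ψ w := by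
    rw [ec ⟨_, h1⟩ h2, ec ⟨x, hxD⟩ h1, e, map_commutatorElement, map_commutatorElement]
    rfl
  have h3 : (w : G)⁻¹ * ⁅⁅x, a⁆, a⁆ ∈ D' := hψk (w⁻¹ * ⟨_, h2⟩) (by
    rw [map_mul, map_inv, e2, inv_mul_cancel])
  have h4 : ⁅⁅x, a⁆, a⁆ ∈ P :=
    comm_mem_self (comm_mem_self hx (hs.normP (hAL ha))) (hs.normP (hAL ha))
  have h5 : (w : G)⁻¹ * ⁅⁅x, a⁆, a⁆ ∈ W := ⟨hD' ⟨(P.mul_mem (P.inv_mem (hs.lt.le hw)) h4).1, h3⟩,
    D.mul_mem (D.inv_mem w.2) h2⟩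
  exact (W.mul_mem_cancel_left (W.inv_mem hw)).1 h5

/-- Sections pass along jointly injective families of equivariant maps. -/
theorem Rel.of_family {E E' : Subgroup G} [E'.Normal] (hrel : Rel p L C A E E') (hAL : A ≤ L)
    (hD : L ≤ nrm D) (hEE : E' ≤ E) (hEp : IsPGroup p ↥E) (φ : G → G → G) (s : Set G)
    (hmem : ∀ x ∈ s, ∀ d ∈ D, φ x d ∈ E)
    (hmul : ∀ x ∈ s, ∀ d ∈ D, ∀ d' ∈ D, (φ x d * φ x d')⁻¹ * φ x (d * d') ∈ E')
    (hL : ∀ x ∈ s, ∀ l ∈ L, ∀ d ∈ D, (l * φ x d * l⁻¹)⁻¹ * φ x (l * d * l⁻¹) ∈ E')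
    (hker : ∀ d ∈ D, (∀ x ∈ s, φ x d ∈ E') → d ∈ D') : Rel p L C A D D' := by
  classical
  suffices key : ∀ t : Finset G, (↑t : Set G) ⊆ s → ∃ K : Subgroup G,
      L ≤ nrm K ∧ K ≤ D ∧ (∀ d ∈ K, ∀ x ∈ t, φ x d ∈ E') ∧ Rel p L C A D K by
    obtain ⟨K, hKn, hKD, hK, hr⟩ := key (Set.toFinite s).toFinset (by simp)
    refine hr.trans (Rel.of_le fun d hd => hker d (hKD hd) fun x hx => hK d hd x ?_) hKn
    simpa using hx
  intro t
  induction t using Finset.induction_on with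
  | empty => exact fun _ => ⟨D, hD, le_rfl, fun _ _ _ hx => absurd hx (by simp), Rel.of_le le_rfl⟩
  | insert x t _ ih =>
    intro hts
    rw [Finset.coe_insert, Set.insert_subset_iff] at hts
    obtain ⟨hxs, hts⟩ := hts
    obtain ⟨K, hKn, hKD, hK, hr⟩ := ih hts
    let ψ : ↥K →* G ⧸ E' := MonoidHom.mk' (fun d => QuotientGroup.mk' E' (φ x d)) fun d d' =>
      (show QuotientGroup.mk' E' (φ x (d * d' : ↥K)) = _ * _ by
        rw [← map_mul]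
        exact (QuotientGroup.eq.2 (hmul x hxs d (hKD d.2) d' (hKD d'.2))).symm)
    have hmemK : ∀ {d : G}, d ∈ ψ.ker.map K.subtype ↔ d ∈ K ∧ φ x d ∈ E' := by
      intro d
      constructor
      · rintro ⟨d, hd, rfl⟩
        exact ⟨d.2, (QuotientGroup.eq_one_iff (φ x d)).1 hd⟩
      · rintro ⟨hd, h⟩
        exact ⟨⟨d, hd⟩, (QuotientGroup.eq_one_iff (φ x d)).2 h, rfl⟩
    refine ⟨ψ.ker.map K.subtype, fun l hl => mem_nrm_of_forall fun d hd => ?_,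
      (map_subtype_le _).trans hKD, fun d hd y hy => ?_, hr.trans ?_ hKn⟩
    · obtain ⟨hd1, hd2⟩ := hmemK.1 hd
      refine hmemK.2 ⟨conj_mem_of_nrm (hKn hl) hd1, ?_⟩
      have h1 := hL x hxs l hl d (hKD hd1)
      exact (E'.mul_mem_cancel_left (E'.inv_mem
        ((inferInstance : E'.Normal).conj_mem _ hd2 l))).1 h1
    · obtain ⟨hd1, hd2⟩ := hmemK.1 hd
      rcases Finset.mem_insert.1 hy with rfl | hy
      · exact hd2
      · exact hK d hd1 y hy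
    · exact Rel.of_hom hrel hAL hKn hEE hEp (φ x) (fun d hd => hmem x hxs d (hKD hd))
        (fun d hd d' hd' => hmul x hxs d (hKD hd) d' (hKD hd'))
        (fun l hl d hd => hL x hxs l hl d (hKD hd)) fun d hd h => hmemK.2 ⟨hd, h⟩

end Cfsg.Agent.OddFocal.Three
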