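import Cfsg.Agent.Lib.Thompson.Block.Basic
import Cfsg.Agent.OddFocal.Three.Sec

/-!
The standing hypotheses for a `p`-minimal group whose Thompson subgroup is not in `O_p`, with no
assumption on the characteristic subgroups of the Baumann subgroup.
-/

set_option autoImplicit false
set_option linter.style.haveILetI false
set_option linter.unusedSectionVars false

open Cfsg
open scoped commutatorElement

namespace Cfsg.Agent.Block82

open Cfsg.Agent.FFPM

variable {p : ℕ} {G : Type*} [Group G] [Finite G] [Fact p.Prime]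

/-- The standing hypotheses. -/
structure Ctx0 (T : Sylow p G) (M : Subgroup G) (q : ℕ) : Prop where
  charP : Subgroup.centralizer (pCore p G : Set G) ≤ pCore p G
  coatom : IsCoatom M
  le_M : (T : Subgroup G) ≤ M
  uniq : ∀ K : Subgroup G, (T : Subgroup G) ≤ K → K ≠ ⊤ → K ≤ M
  not_normal : ¬ (T : Subgroup G).Normal
  hJ : ¬ thompsonSubgroupOf p (T : Subgroup G) ≤ pCore p G
  cen_le_M : cen p G ≤ M
  conf : Conf (Mod p G) q (Tbar T) (M.map (pr p))

/-- The hypotheses of the theorem give the standing hypotheses. -/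
theorem exists_ctx0 (hmin : IsPMinimal p G)
    (hG : Subgroup.centralizer (pCore p G : Set G) ≤ pCore p G) (T : Sylow p G)
    (hJT : ¬ thompsonSubgroupOf p (T : Subgroup G) ≤ pCore p G)
    (hz : ¬ (omegaOneCenter p (T : Subgroup G)).Normal) : ∃ M q, Ctx0 T M q := by
  classical
  have hQn : (pCore p G).Normal := Thompson.instPCoreNormal
  have hQT : ∀ T' : Sylow p G, pCore p G ≤ (T' : Subgroup G) := fun T' =>
    Thompson.isPGroup_pCore.le_sylow_of_normal T'
  obtain ⟨hTn, M, ⟨hM, hTM⟩, hMu⟩ := hmin T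
  have huniqG : ∀ (T' : Sylow p G) (M' : Subgroup G), IsCoatom M' → (T' : Subgroup G) ≤ M' →
      ∀ K : Subgroup G, (T' : Subgroup G) ≤ K → K ≠ ⊤ → K ≤ M' := by
    intro T' M' hM' hT' K hK hKt
    obtain ⟨-, N', -, hNu⟩ := hmin T'
    obtain ⟨L, hL, hKL⟩ := (eq_top_or_exists_le_coatom K).resolve_left hKt
    rw [hNu M' ⟨hM', hT'⟩, ← hNu L ⟨hL, hK.trans hKL⟩]
    exact hKL
  set Z := omegaOneCenter p (T : Subgroup G) with hZdef
  have hZV : Z ≤ Om p G := (Subgroup.closure_le _).2 fun x hx => by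
    have hxC : x ∈ Subgroup.centralizer (pCore p G : Set G) :=
      Subgroup.centralizer_le (hQT T) hx.1.2
    exact Thompson.mem_omegaOne ⟨hG hxC, hxC⟩ hx.2
  have hCZ : cen p G ≤ Subgroup.centralizer (Z : Set G) := Subgroup.centralizer_le hZV
  have hstar : Subgroup.centralizer (Z : Set G) ≠ ⊤ := fun e => hz ⟨fun z hzm g => by
    have : g * z = z * g :=
      ((Subgroup.mem_centralizer_iff.1 (e.ge (Subgroup.mem_top g))) z hzm).symm
    rwa [this, mul_inv_cancel_right]⟩
  have hTZ : (T : Subgroup G) ≤ Subgroup.centralizer (Z : Set G) := fun x hx =>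
    Subgroup.mem_centralizer_iff.2 fun z hz' =>
      ((Subgroup.mem_centralizer_iff.1 (Thompson.omegaOne_le p _ hz').2) x hx).symm
  set C := cen p G with hCdef
  set π := pr (G := G) p with hπdef
  have hπs : Function.Surjective π := pr_surjective
  have hπker : π.ker = C := QuotientGroup.ker_mk' C
  have hQC : pCore p G ≤ C := pCore_le_cen
  have hCTne : C ⊔ (T : Subgroup G) ≠ ⊤ := fun e => hstar (by
    rw [eq_top_iff, ← e]; exact sup_le hCZ hTZ)
  let Tb : Sylow p (Bar p G) := Tbar T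
  have hTb : (Tb : Subgroup (G ⧸ C)) = (T : Subgroup G).map π := rfl
  have hTbn : ¬ (Tb : Subgroup (G ⧸ C)).Normal := fun hn => by
    haveI : (C ⊔ (T : Subgroup G)).Normal := by
      have e : ((Tb : Subgroup (G ⧸ C)).comap π) = C ⊔ (T : Subgroup G) := by
        rw [hTb, Subgroup.comap_map_eq, hπker, sup_comm]
      exact e ▸ hn.comap π
    have hfr := Sylow.normalizer_sup_eq_top' T (le_sup_right : (T : Subgroup G) ≤ C ⊔ T)
    have h1 : C ⊔ (T : Subgroup G) ≤ M := huniqG T M hM hTM _ le_sup_right hCTne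
    have h2 : Subgroup.normalizer ((T : Subgroup G) : Set G) ≤ M :=
      huniqG T M hM hTM _ Subgroup.le_normalizer fun e => hTn (Subgroup.normalizer_eq_top_iff.1 e)
    exact hM.1 (eq_top_iff.2 (hfr ▸ sup_le h2 h1))
  have hcore : ∀ R : Subgroup (G ⧸ C), R.Normal → IsPGroup p ↥R → R = ⊥ := by
    intro R hRn hRp
    set K := R.comap π with hK
    haveI : K.Normal := hRn.comap π
    obtain ⟨S₁⟩ : Nonempty (Sylow p ↥K) := inferInstance
    obtain ⟨T', hT'⟩ := (S₁.isPGroup'.map K.subtype).exists_le_sylow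
    have hS₁ := Agent.Thompson.Alperin.sylow_inf_eq K S₁ T' hT'
    have hKle : K ≤ C ⊔ (S₁ : Subgroup ↥K).map K.subtype := by
      intro k hk
      have hkT : π k ∈ (T'.mapSurjective hπs : Subgroup (G ⧸ C)) :=
        hRp.le_sylow_of_normal (T'.mapSurjective hπs) hk
      obtain ⟨t, ht, e⟩ := hkT
      have hc : k * t⁻¹ ∈ C := by rw [← hπker, MonoidHom.mem_ker, map_mul, map_inv, e, mul_inv_cancel]
      have htK : t ∈ K := by show π t ∈ R; rw [e]; exact hk
      rw [show k = k * t⁻¹ * t by group]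
      exact Subgroup.mul_mem_sup hc (hS₁ ▸ ⟨ht, htK⟩)
    have hfr := Sylow.normalizer_sup_eq_top S₁
    obtain ⟨hT'n, M', ⟨hM', hT'M'⟩, -⟩ := hmin T'
    have hCT' : C ⊔ (T' : Subgroup G) ≠ ⊤ := fun e => hCTne (by
      have hall : ∀ x : G ⧸ C, x ∈ (T'.mapSurjective hπs : Subgroup (G ⧸ C)) := fun x => by
        obtain ⟨g, rfl⟩ := hπs x
        have h1 : g ∈ ((T' : Subgroup G).map π).comap π := by
          rw [Subgroup.comap_map_eq, hπker, sup_comm, e]; exact Subgroup.mem_top g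
        exact h1
      have htop : (Tb : Subgroup (G ⧸ C)) = ⊤ := by
        refine Tb.is_maximal' (Q := ⊤) ?_ le_top |>.symm
        exact (T'.mapSurjective hπs).isPGroup'.to_le fun x _ => hall x
      have h2 := congrArg (Subgroup.comap π) htop
      rwa [hTb, Subgroup.comap_map_eq, hπker, sup_comm, Subgroup.comap_top] at h2)
    have hNt : Subgroup.normalizer (((S₁ : Subgroup ↥K).map K.subtype : Subgroup G) : Set G) = ⊤ := by
      by_contra hN
      have hT'N : (T' : Subgroup G) ≤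
          Subgroup.normalizer (((S₁ : Subgroup ↥K).map K.subtype : Subgroup G) : Set G) := by
        rw [← hS₁]
        intro x hx
        rw [Subgroup.mem_normalizer_iff]
        intro y
        constructor
        · rintro ⟨h1, h2⟩
          exact ⟨Subgroup.mul_mem _ (Subgroup.mul_mem _ hx h1) (Subgroup.inv_mem _ hx),
            Subgroup.Normal.conj_mem inferInstance y h2 x⟩
        · rintro ⟨h1, h2⟩
          have h1' := Subgroup.mul_mem _ (Subgroup.mul_mem _ (Subgroup.inv_mem _ hx) h1) hx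
          have h2' := Subgroup.Normal.conj_mem (inferInstance : K.Normal) _ h2 x⁻¹
          exact ⟨show y ∈ (T' : Subgroup G) by simpa [mul_assoc] using h1', by simpa [mul_assoc] using h2'⟩
      refine hM'.1 (eq_top_iff.2 (hfr ▸ sup_le (huniqG T' M' hM' hT'M' _ hT'N hN) (hKle.trans ?_)))
      exact sup_le (le_sup_left.trans (huniqG T' M' hM' hT'M' _ le_sup_right hCT'))
        (hT'.trans hT'M')
    rw [eq_bot_iff]
    intro x hx
    obtain ⟨g, rfl⟩ := hπs x
    have h1 : (S₁ : Subgroup ↥K).map K.subtype ≤ C := by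
      refine le_trans ?_ hQC
      exact le_sSup ⟨Subgroup.normalizer_eq_top_iff.1 hNt, S₁.isPGroup'.map _⟩
    exact Subgroup.mem_bot.2 ((QuotientGroup.eq_one_iff g).2 ((hKle.trans (sup_le le_rfl h1)) hx))
  have hMC : C ≤ M := le_sup_left.trans (huniqG T M hM hTM _ le_sup_right hCTne)
  have hcm : (M.map π).comap π = M := by rw [Subgroup.comap_map_eq, hπker, sup_eq_left.2 hMC]
  have hfai : ∀ z : Bar p G, (∀ v : Mod p G, z • v = v) → z = 1 := by
    intro z hzf
    obtain ⟨g, rfl⟩ := hπs z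
    exact pr_eq_one.2 (Subgroup.mem_centralizer_iff.2 fun v hv =>
      (smul_eq_iff.1 (hzf (vc hv))).symm)
  have hp : ∀ v : Mod p G, p • v = 0 := fun v => by
    apply cv_injective
    show ((Additive.toMul v ^ p : ↥(Om p G)) : G) = 1
    rw [SubmonoidClass.coe_pow]
    exact (om_elemAb p G).2 _ (Additive.toMul v).2
  have hpm : PM (Mod p G) Tb (M.map π) := by
    refine ⟨fun e => hM.1 ?_, Subgroup.map_mono hTM, fun K hK hKt => ?_, hTbn, hcore, hfai, hp,
      fun hle => hstar ?_⟩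
    · rw [← hcm, e, Subgroup.comap_top]
    · rw [← Subgroup.map_comap_eq_self_of_surjective hπs K]
      refine Subgroup.map_mono (huniqG T M hM hTM _ (Subgroup.map_le_iff_le_comap.1 hK) fun e => hKt ?_)
      rw [← Subgroup.map_comap_eq_self_of_surjective hπs K, e, Subgroup.map_top_of_surjective _ hπs]
    · rw [eq_top_iff]
      intro g _
      refine Subgroup.mem_centralizer_iff.2 fun z hz' => ?_
      have h1 : vc (hZV hz') ∈ (FFSL2.fix (Tb : Subgroup (G ⧸ C)) : AddSubgroup (Mod p G)) :=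
        mem_fix_map.2 (Thompson.omegaOne_le p _ hz').2
      exact (smul_eq_iff.1 (hle h1 (π g) (Subgroup.mem_top _))).symm
  obtain ⟨A₀, hA₀, hA₀C⟩ : ∃ A ∈ maxElementaryAbelianSubgroups p G, ¬ A ≤ C := by
    by_contra! hall
    -- otherwise `J(T)` lies in `O_p(G)` and is normal
    obtain ⟨S₂, hS₂⟩ := (((T.isPGroup'.to_le (inf_le_left : (T : Subgroup G) ⊓ C ≤ T)).comap_subtype
      (K := C))).exists_le_sylow
    obtain ⟨T'', hT''⟩ := (S₂.isPGroup'.map C.subtype).exists_le_sylow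
    have hinf := Thompson.Alperin.sylow_inf_eq C S₂ T'' hT''
    obtain ⟨g, hg⟩ := MulAction.exists_smul_eq G T T''
    have hconjC : FFSL2.cj g C = C := FFPM.cj_eq_of_mem_normalizer
      (by rw [Subgroup.normalizer_eq_top]; exact Subgroup.mem_top g)
    have hcardeq : Nat.card ↥((T'' : Subgroup G) ⊓ C) ≤ Nat.card ↥((T : Subgroup G) ⊓ C) := by
      rw [← hg, ← FFSL2.card_cj g ((T : Subgroup G) ⊓ C), FFSL2.cj,
        Subgroup.map_inf _ _ _ (MulAut.conj g).injective, ← FFSL2.cj, ← FFSL2.cj, hconjC]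
      exact le_of_eq rfl
    have hle2 : (T : Subgroup G) ⊓ C ≤ (T'' : Subgroup G) ⊓ C := by
      rw [hinf]
      intro x hx
      exact ⟨⟨x, hx.2⟩, hS₂ hx, rfl⟩
    have hT0 : (S₂ : Subgroup ↥C).map C.subtype = (T : Subgroup G) ⊓ C :=
      hinf.symm.trans (Subgroup.eq_of_le_of_card_ge hle2 hcardeq).symm
    have hfr := Sylow.normalizer_sup_eq_top S₂
    have hJ : thompsonSubgroupOf p (T : Subgroup G) ≤ (T : Subgroup G) ⊓ C := by
      rw [Thompson.thompsonSubgroupOf_eq]
      exact sSup_le fun A hA => le_inf hA.1 (hall A (Thompson.isMaxEAIn_sylow_iff T hA))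
    rw [hT0] at hfr
    by_cases hN : Subgroup.normalizer (((T : Subgroup G) ⊓ C : Subgroup G) : Set G) = ⊤
    · exact hJT (hJ.trans (le_sSup ⟨Subgroup.normalizer_eq_top_iff.1 hN,
        T.isPGroup'.to_le inf_le_left⟩))
    · refine hM.1 (eq_top_iff.2 (hfr ▸ sup_le (huniqG T M hM hTM _ (fun t ht => ?_) hN) hMC))
      exact OddFocal.Three.nrm_inf_le _ _ ⟨Subgroup.le_normalizer ht,
        (Subgroup.normalizer_eq_top (H := C)).ge (Subgroup.mem_top t)⟩
  obtain ⟨hBb, -, hBne⟩ := Thompson.bestOffender_replacement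
    (Thompson.isPGroup_of_isElementaryAbelian (om_elemAb p G)) (om_elemAb p G).1
    (le_top.trans (Subgroup.normalizer_eq_top (H := Om p G)).ge) (isBestOffender hA₀)
    (U := Om p G) le_rfl
  set B := A₀ ⊓ Subgroup.centralizer ((⁅Om p G, A₀⁆ : Subgroup G) : Set G) with hBdef
  have hBC : ¬ B ≤ C := fun hle => hBne (fun e => hA₀C
    (Subgroup.commutator_eq_bot_iff_le_centralizer.1 (Subgroup.commutator_comm (Om p G) A₀ ▸ e))) (by
    rw [Subgroup.commutator_comm, Subgroup.commutator_eq_bot_iff_le_centralizer]; exact hle)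
  obtain ⟨q, hconf⟩ := exists_conf hpm (A := B.map π)
    (fun e => hBC (by rw [← hπker]; exact (Subgroup.map_eq_bot_iff B).1 e))
    (by
      rintro _ ⟨b, hb, rfl⟩ v
      rw [mem_fix_map, sub_eq_add_neg, cv_add, cv_smul, cv_neg]
      refine Subgroup.mem_centralizer_iff.2 fun c hc => ?_
      exact (Subgroup.mem_centralizer_iff.1 hc.2 _ (by
        rw [Subgroup.commutator_comm]
        exact Subgroup.commutator_mem_commutator hb.1 (cv_mem v))).symm)
    (card_le_mu hBb)
  exact ⟨M, q, hG, hM, hTM, huniqG T M hM hTM, hTn, hJT, hMC, hconf⟩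

namespace Ctx0

variable [Finite G] [hp : Fact p.Prime] {T : Sylow p G} {M : Subgroup G} {q : ℕ} (h : Ctx0 T M q)
include h

local notation "𝐐" => pCore p G
local notation "𝐓" => (T : Subgroup G)
local notation "𝐉" => thompsonSubgroupOf p (T : Subgroup G)
local notation "𝐁" => baumannSubgroupOf p (T : Subgroup G)

theorem omega_sylow_le : omegaOneCenter p 𝐓 ≤ Om p G :=
  LAE65.Block.omegaOneCenter_sylow_le h.charP

theorem sup_eq_top {X : Subgroup G} (hT : 𝐓 ≤ X) (hX : X.map (pr p) = ⊤) : X = ⊤ := by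
  by_contra hne
  refine h.conf.pm.ne_top ?_
  rw [eq_top_iff, ← hX]
  exact Subgroup.map_mono (h.uniq X hT hne)

theorem T_ne_bot : 𝐓 ≠ ⊥ := fun e => h.not_normal (e ▸ inferInstance)

theorem inf_cen_T : 𝐓 ⊓ cen p G = 𝐐 := by
  have hQ : 𝐐 ≤ 𝐓 ⊓ cen p G :=
    le_inf (Thompson.pCore_le_sylow T) pCore_le_cen
  refine le_antisymm ?_ hQ
  obtain ⟨S₁, hS₁⟩ := (((T.isPGroup'.to_le (inf_le_left : 𝐓 ⊓ cen p G ≤ 𝐓)).comap_subtype
    (K := cen p G))).exists_le_sylow
  obtain ⟨T', hT'⟩ := (S₁.isPGroup'.map (cen p G).subtype).exists_le_sylow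
  have hinf := Thompson.Alperin.sylow_inf_eq (cen p G) S₁ T' hT'
  obtain ⟨g, hg⟩ := MulAction.exists_smul_eq G T T'
  have hcard : Nat.card ↥((T' : Subgroup G) ⊓ cen p G) ≤ Nat.card ↥(𝐓 ⊓ cen p G) := by
    have hC : FFSL2.cj g (cen p G) = cen p G := FFPM.cj_eq_of_mem_normalizer
      (by rw [Subgroup.normalizer_eq_top]; exact Subgroup.mem_top g)
    rw [← hg, ← FFSL2.card_cj g (𝐓 ⊓ cen p G), FFSL2.cj,
      Subgroup.map_inf _ _ _ (MulAut.conj g).injective, ← FFSL2.cj, ← FFSL2.cj, hC]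
    exact le_of_eq rfl
  have hle : 𝐓 ⊓ cen p G ≤ (T' : Subgroup G) ⊓ cen p G := by
    rw [hinf]
    exact fun x hx => ⟨⟨x, hx.2⟩, hS₁ hx, rfl⟩
  have hS : (S₁ : Subgroup ↥(cen p G)).map (cen p G).subtype = 𝐓 ⊓ cen p G :=
    hinf.symm.trans (Subgroup.eq_of_le_of_card_ge hle hcard).symm
  have hfr := Sylow.normalizer_sup_eq_top S₁
  have hN : Subgroup.normalizer ((𝐓 ⊓ cen p G : Subgroup G) : Set G) = ⊤ := by
    rw [← hS]
    refine h.sup_eq_top ?_ ?_
    · rw [hS]
      intro t ht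
      rw [Subgroup.mem_normalizer_iff]
      intro x
      constructor
      · exact fun hx => ⟨(𝐓).mul_mem ((𝐓).mul_mem ht hx.1) ((𝐓).inv_mem ht),
          (cen_normal p G).conj_mem x hx.2 t⟩
      · intro hx
        refine ⟨?_, ?_⟩
        · have h1 := (𝐓).mul_mem ((𝐓).mul_mem ((𝐓).inv_mem ht) hx.1) ht
          simp only [mul_assoc, inv_mul_cancel_left, inv_mul_cancel, mul_one] at h1
          exact h1
        · simpa [mul_assoc] using (cen_normal p G).conj_mem _ hx.2 t⁻¹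
    · have := congrArg (Subgroup.map (pr p)) hfr
      rw [Subgroup.map_sup, QuotientGroup.map_mk'_self, sup_bot_eq,
        Subgroup.map_top_of_surjective _ pr_surjective] at this
      exact this
  exact le_sSup ⟨Subgroup.normalizer_eq_top_iff.1 hN, T.isPGroup'.to_le inf_le_left⟩

theorem pgroup_le_cen {P : Subgroup G} (hP : IsPGroup p ↥P) (hPC : P ≤ cen p G) : P ≤ 𝐐 := by
  obtain ⟨T', hT'⟩ := hP.exists_le_sylow
  obtain ⟨g, hg⟩ := MulAction.exists_smul_eq G T T'
  intro x hx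
  have hx' := hT' hx
  rw [← hg, LocalEven61.sylow_smul_coe] at hx'
  obtain ⟨y, hy, rfl⟩ := hx'
  have hyC : y ∈ cen p G := by
    simpa [mul_assoc] using (cen_normal p G).conj_mem _ (hPC hx) g⁻¹
  exact (Thompson.instPCoreNormal).conj_mem y (h.inf_cen_T.le ⟨hy, hyC⟩) g

theorem exists_not_le_cen : ∃ A : Subgroup G, Thompson.IsMaxEAIn p A 𝐓 ∧ ¬ A ≤ cen p G := by
  by_contra! hall
  refine h.hJ ?_
  rw [Thompson.thompsonSubgroupOf_eq]
  exact sSup_le fun A hA => (le_inf hA.1 (hall A hA)).trans h.inf_cen_T.le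

theorem map_le_roots {A : Subgroup G} (hA : Thompson.IsMaxEAIn p A 𝐓) :
    A.map (pr p) ≤ roots (Mod p G) q (Tbar T) := by
  refine h.conf.offender_le_roots _ _ le_rfl (Subgroup.map_mono hA.1) ?_
    (card_le_mu (isBestOffender (Thompson.isMaxEAIn_sylow_iff T hA)))
  rintro _ ⟨a, ha, rfl⟩ _ ⟨b, hb, rfl⟩
  rw [← map_mul, ← map_mul, Thompson.elemAb_comm hA.2.1.1 ha hb]

theorem T_normalizes_J : 𝐓 ≤ Subgroup.normalizer (𝐉 : Set G) :=
  Subgroup.le_normalizer.trans (Thompson.normalizer_le_normalizer_thompsonSubgroupOf _)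

/-- `J(T)` covers the product of the members. -/
theorem map_J : (𝐉).map (pr p) = roots (Mod p G) q (Tbar T) := by
  refine le_antisymm ?_ (sSup_le fun B hB => ?_)
  · rw [Thompson.thompsonSubgroupOf_eq, Subgroup.map_le_iff_le_comap]
    exact sSup_le fun A hA => Subgroup.map_le_iff_le_comap.1 (h.map_le_roots hA)
  · obtain ⟨A, hA, hAC⟩ := h.exists_not_le_cen
    have hX : IsPGroup p ↥(A.map (pr p)) :=
      (Thompson.isPGroup_of_isElementaryAbelian hA.2.1).map _
    have hne : A.map (pr p) ≠ ⊥ := fun e => hAC (by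
      rw [Subgroup.map_eq_bot_iff, QuotientGroup.ker_mk'] at e; exact e)
    obtain ⟨D, hD, hDA⟩ := h.conf.offender_exists hX (by
      rintro _ ⟨a, ha, rfl⟩ _ ⟨b, hb, rfl⟩
      rw [← map_mul, ← map_mul, Thompson.elemAb_comm hA.2.1.1 ha hb]) hne
      (card_le_mu (isBestOffender (Thompson.isMaxEAIn_sylow_iff T hA)))
    have hDm : D ∈ mems (Mod p G) q (Tbar T) 1 :=
      ⟨hD, by rw [FFSL2.cj_one]; exact hDA.trans (Subgroup.map_mono hA.1)⟩
    obtain ⟨t, ht, rfl⟩ := h.conf.exists_cj_mems hDm hB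
    rw [FFSL2.cj_one] at ht
    obtain ⟨s, hs, rfl⟩ := ht
    intro x hx
    obtain ⟨a, ha, e⟩ := hDA (FFSL2.mem_cj.1 hx)
    refine ⟨s * a * s⁻¹, (Subgroup.mem_normalizer_iff.1 (h.T_normalizes_J hs) a).1
      (Thompson.le_thompsonSubgroupOf hA ha), ?_⟩
    rw [map_mul, map_mul, map_inv, e]
    group

theorem quad_roots : Quad (Mod p G) (roots (Mod p G) q (Tbar T)) := by
  rw [quad_iff]
  exact sSup_le fun A hA a ha =>
    ⟨fun v => h.conf.sub_mem_fix_roots hA ha v, fun u hu => hu a (h.conf.mem_le_roots hA ha)⟩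

/-- `(A ∩ C) Om` is again of largest order. -/
theorem replace_max {A : Subgroup G} (hA : Thompson.IsMaxEAIn p A 𝐓) :
    Thompson.IsMaxEAIn p ((A ⊓ cen p G) ⊔ Om p G) 𝐓 ∧ (A ⊓ cen p G) ⊔ Om p G ≤ 𝐐 := by
  have hOmT : Om p G ≤ 𝐓 := (LAE65.Block.omegaOneCenter_le _).trans (Thompson.pCore_le_sylow T)
  have hle : (A ⊓ cen p G) ⊔ Om p G ≤ 𝐓 := sup_le (inf_le_left.trans hA.1) hOmT
  have hel : IsElementaryAbelian p ((A ⊓ cen p G) ⊔ Om p G : Subgroup G) :=
    Thompson.isElementaryAbelian_sup (Thompson.isElementaryAbelian_of_le hA.2.1 inf_le_left)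
      (om_elemAb p G) inf_le_right
  refine ⟨⟨hle, hel, fun B hB hBe => (hA.2.2 B hB hBe).trans ?_⟩, sup_le
    (h.pgroup_le_cen ((Thompson.isPGroup_of_isElementaryAbelian hA.2.1).to_le inf_le_left)
      inf_le_right) (LAE65.Block.omegaOneCenter_le _)⟩
  have hmu := h.conf.no_over _ (quad_mono h.quad_roots (h.map_le_roots hA))
  rw [FFPM.mu, card_fix_map, show Nat.card (Mod p G) = Nat.card ↥(Om p G) from
    Nat.card_congr Additive.toMul] at hmu
  have h1 := card_map_mul (p := p) A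
  have h2 := card_mul_le (A ⊓ cen p G) (Om p G)
  have h3 : Nat.card ↥(A ⊓ cen p G ⊓ Om p G) ≤
      Nat.card ↥(Om p G ⊓ Subgroup.centralizer (A : Set G)) :=
    Subgroup.card_le_of_le fun x hx => ⟨hx.2, Subgroup.mem_centralizer_iff.2 fun a ha =>
      Thompson.elemAb_comm hA.2.1.1 ha hx.1.1⟩
  have h4 : Nat.card ↥A * Nat.card ↥(Om p G ⊓ Subgroup.centralizer (A : Set G)) ≤
      Nat.card ↥((A ⊓ cen p G) ⊔ Om p G : Subgroup G) *
        Nat.card ↥(Om p G ⊓ Subgroup.centralizer (A : Set G)) := by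
    refine le_trans ?_ (h2.trans (Nat.mul_le_mul_left _ h3))
    rw [h1, mul_comm _ (Nat.card ↥(A ⊓ cen p G)), mul_assoc]
    exact Nat.mul_le_mul_left _ hmu
  exact Nat.le_of_mul_le_mul_right h4 Nat.card_pos

theorem isMaxEAIn_core {A : Subgroup G} (hA : Thompson.IsMaxEAIn p A 𝐐) :
    Thompson.IsMaxEAIn p A 𝐓 := by
  obtain ⟨A₀, hA₀, -⟩ := h.exists_not_le_cen
  obtain ⟨hmax, hle⟩ := h.replace_max hA₀
  exact ⟨hA.1.trans (Thompson.pCore_le_sylow T), hA.2.1, fun B hB hBe =>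
    (hmax.2.2 B hB hBe).trans (hA.2.2 _ hle hmax.2.1)⟩

/-- `Ω₁(Z(J(T)))`. -/
abbrev zJ (_h : Ctx0 T M q) : Subgroup G := omegaOne p (centerThompsonOf p 𝐓)

/-- `Ω₁(Z(O_p(G))) Ω₁(Z(J(T)))`. -/
abbrev Y (h : Ctx0 T M q) : Subgroup G := Om p G ⊔ h.zJ

theorem zJ_mem_max {A : Subgroup G} (hA : Thompson.IsMaxEAIn p A 𝐓) {z : G} (hz : z ∈ h.zJ) :
    z ∈ A := by
  have hz' := Thompson.omegaOne_le p _ hz
  have hel : IsElementaryAbelian p h.zJ :=
    Thompson.isElementaryAbelian_omegaOne (comm_inf_centralizer G _)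
  refine Thompson.mem_of_centralizes_max (Thompson.isMaxEAIn_sylow_iff T hA)
    (Subgroup.mem_centralizer_iff.2 fun a ha => ?_) (hel.2 z hz)
  exact (Subgroup.mem_centralizer_iff.1 hz'.2) a (Thompson.le_thompsonSubgroupOf hA ha)

theorem zJ_le_core : h.zJ ≤ 𝐐 := by
  obtain ⟨A₀, hA₀, -⟩ := h.exists_not_le_cen
  obtain ⟨hmax, hle⟩ := h.replace_max hA₀
  exact fun z hz => hle (h.zJ_mem_max hmax hz)

theorem J_core_le : thompsonSubgroupOf p 𝐐 ≤ 𝐉 := by
  rw [Thompson.thompsonSubgroupOf_eq]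
  exact sSup_le fun A hA => Thompson.le_thompsonSubgroupOf (h.isMaxEAIn_core hA)

theorem normalClosure_J_sup :
    Subgroup.normalClosure ((𝐉 : Subgroup G) : Set G) ⊔ 𝐓 = ⊤ := by
  set N := Subgroup.normalClosure ((𝐉 : Subgroup G) : Set G)
  by_contra hne
  have hM : N ≤ M := le_sup_left.trans (h.uniq _ le_sup_right hne)
  obtain ⟨S₁, hS₁⟩ := (((T.isPGroup'.to_le (inf_le_left : 𝐓 ⊓ N ≤ 𝐓)).comap_subtype
    (K := N))).exists_le_sylow
  have hfr := Sylow.normalizer_sup_eq_top S₁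
  obtain ⟨T', hT'⟩ := (S₁.isPGroup'.map N.subtype).exists_le_sylow
  have hinf := Thompson.Alperin.sylow_inf_eq N S₁ T' hT'
  obtain ⟨g, hg⟩ := MulAction.exists_smul_eq G T T'
  have hNn : N.Normal := Subgroup.normalClosure_normal
  have hcard : Nat.card ↥((T' : Subgroup G) ⊓ N) ≤ Nat.card ↥(𝐓 ⊓ N) := by
    have hC : FFSL2.cj g N = N := FFPM.cj_eq_of_mem_normalizer
      (by rw [Subgroup.normalizer_eq_top]; exact Subgroup.mem_top g)
    rw [← hg, ← FFSL2.card_cj g (𝐓 ⊓ N), FFSL2.cj,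
      Subgroup.map_inf _ _ _ (MulAut.conj g).injective, ← FFSL2.cj, ← FFSL2.cj, hC]
    exact le_of_eq rfl
  have hle : 𝐓 ⊓ N ≤ (T' : Subgroup G) ⊓ N := by
    rw [hinf]
    exact fun x hx => ⟨⟨x, hx.2⟩, hS₁ hx, rfl⟩
  have hS : (S₁ : Subgroup ↥N).map N.subtype = 𝐓 ⊓ N :=
    hinf.symm.trans (Subgroup.eq_of_le_of_card_ge hle hcard).symm
  rw [hS] at hfr
  have hTN : 𝐓 ≤ Subgroup.normalizer ((𝐓 ⊓ N : Subgroup G) : Set G) := by
    intro t ht
    rw [Subgroup.mem_normalizer_iff]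
    intro x
    constructor
    · exact fun hx => ⟨(𝐓).mul_mem ((𝐓).mul_mem ht hx.1) ((𝐓).inv_mem ht), hNn.conj_mem x hx.2 t⟩
    · intro hx
      refine ⟨?_, ?_⟩
      · have h1 := (𝐓).mul_mem ((𝐓).mul_mem ((𝐓).inv_mem ht) hx.1) ht
        simp only [mul_assoc, inv_mul_cancel_left, inv_mul_cancel, mul_one] at h1
        exact h1
      · simpa [mul_assoc] using hNn.conj_mem _ hx.2 t⁻¹
  by_cases hN : Subgroup.normalizer ((𝐓 ⊓ N : Subgroup G) : Set G) = ⊤
  · obtain ⟨A, hA, hAC⟩ := h.exists_not_le_cen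
    refine hAC ((Thompson.le_thompsonSubgroupOf hA).trans (le_trans ?_ pCore_le_cen))
    refine le_trans ?_ (le_sSup ⟨Subgroup.normalizer_eq_top_iff.1 hN, T.isPGroup'.to_le inf_le_left⟩)
    exact le_inf ((LAE65.Block.thompson_le_baumann _).trans (LAE65.Block.baumann_le _))
      Subgroup.subset_normalClosure
  · exact h.coatom.1 (eq_top_iff.2 (hfr ▸ sup_le (h.uniq _ hTN hN) hM))

theorem normalClosure_comm : ∀ n ∈ Subgroup.normalClosure ((𝐉 : Subgroup G) : Set G),
    ∀ z ∈ h.zJ, ⁅n, z⁆ ∈ Om p G := by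
  set ZR := omegaOne p (centerThompsonOf p 𝐐) with hZR
  haveI hQn : (𝐐).Normal := Thompson.instPCoreNormal
  haveI hJn : (thompsonSubgroupOf p 𝐐).Normal := by
    have h1 := Thompson.normalizer_le_normalizer_thompsonSubgroupOf (p := p) 𝐐
    rw [Subgroup.normalizer_eq_top] at h1
    exact Subgroup.normalizer_eq_top_iff.1 (top_le_iff.1 h1)
  haveI hZn : ZR.Normal := by
    haveI : (Subgroup.centralizer (thompsonSubgroupOf p 𝐐 : Set G)).Normal :=
      Subgroup.normal_centralizer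
    haveI : (centerThompsonOf p 𝐐).Normal := by rw [centerThompsonOf]; infer_instance
    exact Thompson.omegaOne_normal _
  have hzJ : h.zJ ≤ ZR := by
    intro z hz
    obtain ⟨A, hA⟩ := Thompson.exists_isMaxEAIn p 𝐐
    have hz' := Thompson.omegaOne_le p _ hz
    have hel : IsElementaryAbelian p h.zJ :=
      Thompson.isElementaryAbelian_omegaOne (comm_inf_centralizer G _)
    exact Thompson.mem_omegaOne ⟨Thompson.le_thompsonSubgroupOf hA
      (h.zJ_mem_max (h.isMaxEAIn_core hA) hz),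
      Subgroup.centralizer_le h.J_core_le hz'.2⟩ (hel.2 z hz)
  have hJc : 𝐉 ≤ PushUp62.centMod ZR (Om p G) := by
    rw [Thompson.thompsonSubgroupOf_eq]
    refine sSup_le fun A hA a ha => ⟨by rw [Subgroup.normalizer_eq_top]; trivial, fun z hz => ?_⟩
    obtain ⟨hmax, hle⟩ := h.replace_max hA
    have hz' := Thompson.omegaOne_le p _ hz
    have hzA : z ∈ (A ⊓ cen p G) ⊔ Om p G := by
      refine Thompson.mem_of_centralizes_max (Thompson.isMaxEAIn_sylow_iff T hmax)
        (Subgroup.mem_centralizer_iff.2 fun b hb => (Subgroup.mem_centralizer_iff.1 hz'.2) b ?_)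
        ((Thompson.isElementaryAbelian_omegaOne (comm_inf_centralizer G _)).2 z hz)
      exact Thompson.le_thompsonSubgroupOf
        ⟨hle, hmax.2.1, fun B hB hBe => hmax.2.2 B (hB.trans (Thompson.pCore_le_sylow T)) hBe⟩ hb
    obtain ⟨b, hb, o, ho, rfl⟩ := (Subgroup.mem_sup_of_normal_right (t := Om p G)).1 hzA
    rw [PushUp62.commutator_mul_right, commutatorElement_eq_one_iff_mul_comm.2
      (Thompson.elemAb_comm hA.2.1.1 ha hb.1), one_mul]
    refine (om_normal p G).conj_mem _ ?_ b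
    rw [commutatorElement_def]
    exact mul_mem ((om_normal p G).conj_mem o ho a) (inv_mem ho)
  have hN : Subgroup.normalClosure ((𝐉 : Subgroup G) : Set G) ≤ PushUp62.centMod ZR (Om p G) := by
    haveI : (PushUp62.centMod ZR (Om p G)).Normal := ⟨fun a ha g =>
      ⟨by rw [Subgroup.normalizer_eq_top]; trivial, fun y hy => by
        have h1 := (om_normal p G).conj_mem _ (ha.2 _ (show g⁻¹ * y * g ∈ ZR by
          simpa using hZn.conj_mem y hy g⁻¹)) g
        rwa [show g * ⁅a, g⁻¹ * y * g⁆ * g⁻¹ = ⁅g * a * g⁻¹, y⁆ by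
          simp only [commutatorElement_def]; group] at h1⟩⟩
    exact Subgroup.normalClosure_le_normal hJc
  exact fun n hn z hz => (hN hn).2 z (hzJ hz)

theorem Y_normal : h.Y.Normal := by
  set ZR := omegaOne p (centerThompsonOf p 𝐐) with hZR
  haveI hQn : (𝐐).Normal := Thompson.instPCoreNormal
  haveI hJn : (thompsonSubgroupOf p 𝐐).Normal := by
    have h1 := Thompson.normalizer_le_normalizer_thompsonSubgroupOf (p := p) 𝐐
    rw [Subgroup.normalizer_eq_top] at h1
    exact Subgroup.normalizer_eq_top_iff.1 (top_le_iff.1 h1)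
  haveI hZn : ZR.Normal := by
    haveI : (Subgroup.centralizer (thompsonSubgroupOf p 𝐐 : Set G)).Normal :=
      Subgroup.normal_centralizer
    haveI : (centerThompsonOf p 𝐐).Normal := by rw [centerThompsonOf]; infer_instance
    exact Thompson.omegaOne_normal _
  have hzJ : h.zJ ≤ ZR := by
    intro z hz
    obtain ⟨A, hA⟩ := Thompson.exists_isMaxEAIn p 𝐐
    have hz' := Thompson.omegaOne_le p _ hz
    have hel : IsElementaryAbelian p h.zJ :=
      Thompson.isElementaryAbelian_omegaOne (comm_inf_centralizer G _)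
    exact Thompson.mem_omegaOne ⟨Thompson.le_thompsonSubgroupOf hA
      (h.zJ_mem_max (h.isMaxEAIn_core hA) hz),
      Subgroup.centralizer_le h.J_core_le hz'.2⟩ (hel.2 z hz)
  have hJc : 𝐉 ≤ PushUp62.centMod ZR (Om p G) := by
    rw [Thompson.thompsonSubgroupOf_eq]
    refine sSup_le fun A hA a ha => ⟨by rw [Subgroup.normalizer_eq_top]; trivial, fun z hz => ?_⟩
    obtain ⟨hmax, hle⟩ := h.replace_max hA
    have hz' := Thompson.omegaOne_le p _ hz
    have hzA : z ∈ (A ⊓ cen p G) ⊔ Om p G := by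
      refine Thompson.mem_of_centralizes_max (Thompson.isMaxEAIn_sylow_iff T hmax)
        (Subgroup.mem_centralizer_iff.2 fun b hb => (Subgroup.mem_centralizer_iff.1 hz'.2) b ?_)
        ((Thompson.isElementaryAbelian_omegaOne (comm_inf_centralizer G _)).2 z hz)
      exact Thompson.le_thompsonSubgroupOf
        ⟨hle, hmax.2.1, fun B hB hBe => hmax.2.2 B (hB.trans (Thompson.pCore_le_sylow T)) hBe⟩ hb
    obtain ⟨b, hb, o, ho, rfl⟩ := (Subgroup.mem_sup_of_normal_right (t := Om p G)).1 hzA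
    rw [PushUp62.commutator_mul_right, commutatorElement_eq_one_iff_mul_comm.2
      (Thompson.elemAb_comm hA.2.1.1 ha hb.1), one_mul]
    refine (om_normal p G).conj_mem _ ?_ b
    rw [commutatorElement_def]
    exact mul_mem ((om_normal p G).conj_mem o ho a) (inv_mem ho)
  have hN : Subgroup.normalClosure ((𝐉 : Subgroup G) : Set G) ≤ PushUp62.centMod ZR (Om p G) := by
    haveI : (PushUp62.centMod ZR (Om p G)).Normal := ⟨fun a ha g =>
      ⟨by rw [Subgroup.normalizer_eq_top]; trivial, fun y hy => by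
        have h1 := (om_normal p G).conj_mem _ (ha.2 _ (show g⁻¹ * y * g ∈ ZR by
          simpa using hZn.conj_mem y hy g⁻¹)) g
        rwa [show g * ⁅a, g⁻¹ * y * g⁆ * g⁻¹ = ⁅g * a * g⁻¹, y⁆ by
          simp only [commutatorElement_def]; group] at h1⟩⟩
    exact Subgroup.normalClosure_le_normal hJc
  refine Subgroup.normalizer_eq_top_iff.1 (eq_top_iff.2 ?_)
  rw [← h.normalClosure_J_sup]
  refine sup_le (PushUp62.le_normalizer_of_conj fun g hg y hy => ?_) fun t ht => ?_
  · obtain ⟨o, ho, z, hz, rfl⟩ := (Subgroup.mem_sup_of_normal_left (t := h.zJ)).1 hy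
    rw [show g * (o * z) * g⁻¹ = (g * o * g⁻¹) * (⁅g, z⁆ * z) by
      simp only [commutatorElement_def]; group]
    exact mul_mem (Subgroup.mem_sup_left ((om_normal p G).conj_mem o ho g))
      (mul_mem (Subgroup.mem_sup_left ((hN hg).2 z (hzJ hz))) (Subgroup.mem_sup_right hz))
  · have hzn : t ∈ Subgroup.normalizer ((h.zJ : Subgroup G) : Set G) := by
      have hJ := h.T_normalizes_J ht
      rw [LocalEven62.mem_normalizer_iff_map] at hJ ⊢
      rw [zJ, Thompson.map_omegaOne _ _ (MulAut.conj t).injective.injOn, centerThompsonOf,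
        LocalEven64.map_self_centralizer (MulAut.conj t).injective, hJ]
    refine PushUp62.mem_normalizer_of_cj_eq ?_
    rw [Y, PushUp62.cj_sup t, PushUp62.cj_eq_of_mem_normalizer hzn, PushUp62.cj_eq_of_mem_normalizer
      (by rw [Subgroup.normalizer_eq_top]; exact Subgroup.mem_top t)]

theorem baumann_eq : 𝐁 = 𝐓 ⊓ Subgroup.centralizer (h.zJ : Set G) := rfl

theorem inf_core : 𝐁 ⊓ 𝐐 = 𝐐 ⊓ Subgroup.centralizer (h.Y : Set G) := by
  refine le_antisymm (fun x hx => ⟨hx.2, ?_⟩)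
    fun x hx => ⟨⟨Thompson.pCore_le_sylow T hx.1, Subgroup.centralizer_le (fun z hz => Subgroup.mem_sup_right hz) hx.2⟩, hx.1⟩
  have hle : h.Y ≤ Subgroup.centralizer {x} := sup_le
    (fun o ho => Subgroup.mem_centralizer_singleton_iff.2
      (Subgroup.mem_centralizer_iff.1 (pCore_le_cen hx.2) o ho))
    fun z hz => Subgroup.mem_centralizer_singleton_iff.2
      (Subgroup.mem_centralizer_iff.1 hx.1.2 z hz)
  exact Subgroup.mem_centralizer_iff.2 fun y hy => Subgroup.mem_centralizer_singleton_iff.1 (hle hy)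

theorem inf_core_normal : (𝐁 ⊓ 𝐐).Normal := by
  rw [h.inf_core]
  haveI := h.Y_normal
  haveI : (Subgroup.centralizer (h.Y : Set G)).Normal := Subgroup.normal_centralizer
  haveI : (𝐐).Normal := Thompson.instPCoreNormal
  infer_instance

theorem Y_le_inf_core : h.Y ≤ 𝐁 ⊓ 𝐐 := by
  rw [h.inf_core]
  have hY : h.Y ≤ 𝐐 := sup_le (LAE65.Block.omegaOneCenter_le _) h.zJ_le_core
  refine le_inf hY (Subgroup.le_centralizer_iff.1 (sup_le ?_ ?_))
  · exact Subgroup.le_centralizer_iff.1 (hY.trans pCore_le_cen)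
  · refine Subgroup.le_centralizer_iff.1 (sup_le (Subgroup.le_centralizer_iff.1
      (h.zJ_le_core.trans pCore_le_cen)) fun z hz => Subgroup.mem_centralizer_iff.2 fun w hw => ?_)
    exact Thompson.elemAb_comm
      (Thompson.isElementaryAbelian_omegaOne (comm_inf_centralizer G _)).1 hw hz

theorem fix_roots_le_zJ {v : Mod p G}
    (hv : v ∈ (FFSL2.fix (roots (Mod p G) q (Tbar T)) : AddSubgroup (Mod p G))) :
    cv v ∈ h.zJ := by
  rw [← h.map_J, mem_fix_map] at hv
  obtain ⟨A, hA⟩ := Thompson.exists_isMaxEAIn p 𝐓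
  refine Thompson.mem_omegaOne ⟨Thompson.le_thompsonSubgroupOf hA ?_, hv⟩
    ((om_elemAb p G).2 _ (cv_mem v))
  exact Thompson.mem_of_centralizes_max (Thompson.isMaxEAIn_sylow_iff T hA)
    (Subgroup.centralizer_le (Thompson.le_thompsonSubgroupOf hA) hv) ((om_elemAb p G).2 _ (cv_mem v))

theorem map_B : (𝐁).map (pr p) = roots (Mod p G) q (Tbar T) := by
  refine le_antisymm ?_ (h.map_J.symm.le.trans (Subgroup.map_mono (LAE65.Block.thompson_le_baumann _)))
  rintro _ ⟨b, hb, rfl⟩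
  refine h.conf.mem_roots_of_fix ⟨b, hb.1, rfl⟩ fun v hv => ?_
  exact smul_eq_iff.2 (Subgroup.mem_centralizer_iff.1 hb.2 _ (h.fix_roots_le_zJ hv)).symm

end Ctx0

end Cfsg.Agent.Block82
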