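import Cfsg.Agent.LAE65.NaturalSection

/-!
A simple module of `SL₂(F)` which is generated by the fixed points of two Sylow subgroups is
quadratic, and the criterion for a vector to lie in the sum of these fixed points.
-/

set_option autoImplicit false
set_option linter.unusedSectionVars false
set_option linter.style.haveILetI false

open Matrix
open scoped MatrixGroups

namespace Cfsg.Agent.OddFocal.Three

universe u v

variable {p : ℕ} [hp : Fact p.Prime] {L : Type u} [Group L] [Finite L]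
  {F : Type} [Field F] [Fintype F]
  {A : Type v} [AddCommGroup A] [Finite A] (σ : L →* AddMonoid.End A)

/-- Fixed points of a subgroup. -/
def fixA (U : Subgroup L) : AddSubgroup A where
  carrier := {a | ∀ x ∈ U, σ x a = a}
  zero_mem' := fun _ _ => map_zero _
  add_mem' := fun {a b} ha hb x hx => by rw [map_add, ha x hx, hb x hx]
  neg_mem' := fun {a} ha x hx => by rw [map_neg, ha x hx]

omit [Finite L] [Finite A] in
theorem act_mul' (x y : L) (a : A) : σ (x * y) a = σ x (σ y a) := by rw [map_mul]; rfl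

omit [Finite L] [Finite A] in
theorem act_one' (a : A) : σ 1 a = a := by rw [map_one]; rfl

/-- A subgroup mapping onto a subgroup of order `q` of `SL₂(F)`, `|F| = q = p ^ n`, maps onto a
Sylow subgroup. -/
theorem exists_sylow_eq (π : L →* SL(2, F)) {n : ℕ} (hF : Fintype.card F = p ^ n)
    (U : Subgroup L)
    (hU : Nat.card ↥(U.map π) = Fintype.card F) :
    ∃ S : Sylow p SL(2, F), (S : Subgroup SL(2, F)) = U.map π := by
  haveI : CharP F p := charP_of_card_eq_prime_pow hF
  obtain ⟨S, hS⟩ := (IsPGroup.of_card (p := p) (n := n) (by rw [hU, hF]) :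
    IsPGroup p ↥(U.map π)).exists_le_sylow
  refine ⟨S, (Subgroup.eq_of_le_of_card_ge hS ?_).symm⟩
  rw [hU, LinearGroup.card_sylow_SL_two p S, Nat.card_eq_fintype_card]

variable (π : L →* SL(2, F)) (hπ : Function.Surjective π) (hker : ∀ x, π x = 1 → σ x = 1)
  {n : ℕ} (hF : Fintype.card F = p ^ n) (hA : IsPGroup p (Multiplicative A))
  (U U' : Subgroup L) (hU : Nat.card ↥(U.map π) = Fintype.card F)

include hπ hker hF hA hU in
/-- A vector whose translation cocycle on `U` extends to a cocycle vanishing on `U'` and on the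
kernel is a sum of fixed vectors. -/
theorem mem_sup_fix (m : A) (c : L → A) (hc : ∀ x y, c (x * y) = c x + σ x (c y))
    (hcU : ∀ x ∈ U, c x = σ x m - m) (hcU' : ∀ x ∈ U', c x = 0)
    (hck : ∀ x, π x = 1 → c x = 0) : m ∈ fixA σ U ⊔ fixA σ U' := by
  classical
  obtain ⟨S, hS⟩ := exists_sylow_eq π hF U hU
  set H : Subgroup L := (S : Subgroup SL(2, F)).comap π with hH
  have hidx : ¬ p ∣ H.index := by
    rw [hH, Subgroup.index_comap_of_surjective _ hπ]; exact S.not_dvd_index
  have hcH : ∀ x ∈ H, c x = σ x m - m := by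
    intro x hx
    have hx' : π x ∈ U.map π := hS ▸ hx
    obtain ⟨y, hy, hyx⟩ := hx'
    have hk : π (y⁻¹ * x) = 1 := by rw [map_mul, map_inv, hyx, inv_mul_cancel]
    rw [show x = y * (y⁻¹ * x) by group, hc, hcU y hy, hck _ hk, map_zero, add_zero, act_mul',
      hker _ hk]
    rfl
  let d : L → A := fun x => c x - (σ x m - m)
  have hd : ∀ x y, d (x * y) = d x + σ x (d y) := by
    intro x y
    simp only [d, hc, map_sub, act_mul']
    abel
  have hdH : ∀ x, ∀ h ∈ H, d (x * h) = d x := by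
    intro x h hh
    rw [hd, show d h = 0 by simp only [d, hcH h hh, sub_self], map_zero, add_zero]
  haveI : Fintype (L ⧸ H) := Fintype.ofFinite _
  set S₀ := ∑ q : L ⧸ H, d q.out with hS₀
  have hsum : ∀ x, S₀ = Fintype.card (L ⧸ H) • d x + σ x S₀ := by
    intro x
    have h1 : S₀ = ∑ q : L ⧸ H, d (x • q).out := (Equiv.sum_comp (MulAction.toPerm x)
      fun q : L ⧸ H => d q.out).symm
    have h2 : ∀ q : L ⧸ H, d (x • q).out = d x + σ x (d q.out) := by
      intro q
      rw [← hd]
      have e : (x * q.out)⁻¹ * (x • q).out ∈ H := by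
        rw [← QuotientGroup.eq, QuotientGroup.out_eq']
        nth_rewrite 2 [← QuotientGroup.out_eq' q]
        rfl
      conv_lhs => rw [show (x • q).out = (x * q.out) * ((x * q.out)⁻¹ * (x • q).out) by group]
      exact hdH _ _ e
    rw [Finset.sum_congr rfl fun q _ => h2 q, Finset.sum_add_distrib, Finset.sum_const,
      Finset.card_univ, ← map_sum] at h1
    exact h1
  set N := Fintype.card (L ⧸ H) with hN
  have hNi : N = H.index := by rw [hN, Subgroup.index_eq_card, Nat.card_eq_fintype_card]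
  have hbij : Function.Bijective fun a : A => N • a := by
    have h1 := (hA.powEquiv' (hNi ▸ hidx : ¬ p ∣ N)).bijective
    exact h1
  obtain ⟨m₀, hm₀ : N • m₀ = S₀⟩ := hbij.2 S₀
  have hdx : ∀ x, d x = m₀ - σ x m₀ := by
    intro x
    refine hbij.1 ?_
    show N • d x = N • (m₀ - σ x m₀)
    refine (eq_sub_of_add_eq (hsum x).symm).trans ?_
    rw [← hm₀, map_nsmul, nsmul_sub]
  have hcx : ∀ x, c x = σ x (m - m₀) - (m - m₀) := by
    intro x
    have := hdx x
    simp only [d, sub_eq_iff_eq_add] at this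
    rw [this, map_sub]
    abel
  refine AddSubgroup.mem_sup.2 ⟨m₀, fun x hx => ?_, m - m₀, fun x hx => ?_, by abel⟩
  · have h1 := hcx x
    rw [hcU x hx, map_sub] at h1
    have h2 : σ x m₀ - m₀ = 0 := by
      rw [← sub_eq_zero.2 h1]; abel
    exact sub_eq_zero.1 h2
  · exact sub_eq_zero.1 ((hcx x).symm.trans (hcU' x hx))

include hπ hker hF hA hU in
/-- A simple module which is the sum of the fixed points of two Sylow subgroups is quadratic. -/
theorem quad_of_sup_fix (hU' : Nat.card ↥(U'.map π) = Fintype.card F)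
    (hirr : ∀ W : AddSubgroup A, (∀ x, ∀ a ∈ W, σ x a ∈ W) → W = ⊥ ∨ W = ⊤)
    (hsum : fixA σ U ⊔ fixA σ U' = ⊤) {x : L} (hx : x ∈ U) (a : A) :
    σ x (σ x a - a) = σ x a - a := by
  classical
  obtain ⟨S, hS⟩ := exists_sylow_eq π hF U hU
  obtain ⟨S', hS'⟩ := exists_sylow_eq π hF U' hU'
  obtain ⟨e, he⟩ := LAE65.Natural.exists_equiv_sylow hF (MulEquiv.refl SL(2, F)) S
  -- the action of `SL₂(F)`
  let sec : SL(2, F) → L := Function.surjInv hπ
  have hsec : ∀ z, π (sec z) = z := Function.surjInv_eq hπ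
  have hfac : ∀ x y, π x = π y → ∀ a, σ x a = σ y a := by
    intro x y h a
    have hk : π (y⁻¹ * x) = 1 := by rw [map_mul, map_inv, h, inv_mul_cancel]
    conv_lhs => rw [show x = y * (y⁻¹ * x) by group, act_mul', hker _ hk]
    rfl
  let τ : SL(2, F) →* AddMonoid.End A :=
    { toFun := fun z => σ (sec (e.symm z))
      map_one' := AddMonoidHom.ext fun a =>
        (hfac (sec (e.symm 1)) 1 (by rw [hsec, map_one, map_one]) a).trans (act_one' σ a)
      map_mul' := fun z w => AddMonoidHom.ext fun a =>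
        (hfac (sec (e.symm (z * w))) (sec (e.symm z) * sec (e.symm w))
          (by rw [hsec, map_mul, map_mul, hsec, hsec]) a).trans (act_mul' σ _ _ a) }
  have hτ : ∀ x a, τ (e (π x)) a = σ x a := fun x a =>
    hfac _ _ (by rw [hsec, e.symm_apply_apply]) a
  have hirr' : ∀ W : AddSubgroup A, (∀ g, ∀ a ∈ W, τ g a ∈ W) → W = ⊥ ∨ W = ⊤ :=
    fun W hW => hirr W fun x a ha => hτ x a ▸ hW _ a ha
  by_cases hnt : ∃ g a, τ g a ≠ a
  swap
  · push Not at hnt
    rw [← hτ x a, hnt, sub_self, map_zero]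
  have hfixU : fixA σ U ≤ LAE65.Natural.fixU τ := by
    intro v hv b
    have hb : e.symm (LAE65.Natural.uMat b) ∈ (S : Subgroup SL(2, F)) :=
      (he _).2 ⟨b, e.apply_symm_apply _⟩
    rw [hS] at hb
    obtain ⟨y, hy, hyb⟩ := hb
    rw [← e.apply_symm_apply (LAE65.Natural.uMat b), ← hyb, hτ]
    exact hv y hy
  -- the two fixed spaces have the same order
  obtain ⟨z, hz⟩ := MulAction.exists_smul_eq SL(2, F) S S'
  obtain ⟨l, hl⟩ := hπ z
  have hcard : Nat.card ↥(fixA σ U') ≤ Nat.card ↥(fixA σ U) := by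
    refine Nat.card_le_card_of_injective (fun v => (⟨σ l⁻¹ v, fun y hy => ?_⟩ : ↥(fixA σ U))) ?_
    · have h1 : z * π y * z⁻¹ ∈ U'.map π := by
        rw [← hS', ← hz]
        exact Subgroup.smul_mem_pointwise_smul _ (MulAut.conj z) _ (hS ▸ ⟨y, hy, rfl⟩)
      obtain ⟨y', hy', hy''⟩ := h1
      have h2 : σ (l * y * l⁻¹) (v : A) = v := by
        rw [hfac _ y' (by rw [map_mul, map_mul, map_inv, hl, hy''])]
        exact v.2 y' hy'
      have h3 := congrArg (σ l⁻¹) h2
      rwa [← act_mul', show l⁻¹ * (l * y * l⁻¹) = y * l⁻¹ by group, act_mul'] at h3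
    · intro v w h
      have h1 := congrArg (fun t : ↥(fixA σ U) => σ l (t : A)) h
      simp only [← act_mul', mul_inv_cancel, act_one'] at h1
      exact Subtype.ext h1
  have hle : Nat.card A ≤ Nat.card (LAE65.Natural.fixU τ) ^ 2 := by
    let f : ↥(fixA σ U) × ↥(fixA σ U') → A := fun t => (t.1 : A) + t.2
    have hf : Function.Surjective f := fun v => by
      obtain ⟨a, ha, b, hb, h⟩ := AddSubgroup.mem_sup.1 (hsum ▸ AddSubgroup.mem_top v :
        v ∈ fixA σ U ⊔ fixA σ U')
      exact ⟨(⟨a, ha⟩, ⟨b, hb⟩), h⟩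
    refine (Nat.card_le_card_of_surjective f hf).trans ?_
    rw [Nat.card_prod, sq]
    have h1 := AddSubgroup.card_le_of_le hfixU
    exact Nat.mul_le_mul h1 (hcard.trans h1)
  have hu : IsPGroup p (Multiplicative F) := IsPGroup.of_card (n := n)
    (by rw [Nat.card_congr Multiplicative.toAdd, Nat.card_eq_fintype_card, hF])
  obtain ⟨ψ, hψ⟩ := LAE65.Natural.exists_natural τ hu hA hirr' hnt
    (LAE65.Natural.sup_fix_of_card τ hirr' hnt hle)
  obtain ⟨b, hb⟩ := (he (π x)).1 (hS ▸ ⟨x, hx, rfl⟩)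
  rw [← hτ x (σ x a - a), ← hτ x a, hb]
  apply ψ.injective
  simp only [hψ, map_sub]
  funext i
  fin_cases i <;>
    simp [LAE65.Natural.uMat_coe, dotProduct, Fin.sum_univ_two, mul_comm]

end Cfsg.Agent.OddFocal.Three
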