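import Cfsg.Agent.OddFocal.Three.Sec
import Cfsg.Agent.OddFocal.Three.Module

/-!
Sections of a group which is the product of two subgroups, each centralized by one of two
unipotent groups generating an `SL₂(q)`.
-/

set_option autoImplicit false
set_option linter.unusedSectionVars false
set_option linter.style.haveILetI false

open Subgroup Cfsg
open scoped commutatorElement MatrixGroups

namespace Cfsg.Agent.OddFocal.Three

open ConjFunctor

variable {G : Type*} [Group G] [Finite G] {p : ℕ} {L C A P W : Subgroup G}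

/-- Enlarging a section by a subgroup meeting it below. -/
theorem Sec.push {N : Subgroup G} (h : Sec p L C P W) (hN : L ≤ nrm N) (hPN : P ≤ nrm N)
    (hinf : P ⊓ N ≤ W) (hcomm : ⁅P ⊔ N, P ⊔ N⁆ ≤ W ⊔ N) (hp : IsPGroup p ↥(P ⊔ N : Subgroup G)) :
    Sec p L C (P ⊔ N) (W ⊔ N) := by
  refine ⟨lt_of_le_not_ge (sup_le_sup_right h.lt.le N) fun hle => h.lt.not_ge fun x hx => ?_,
    (le_inf h.normP hN).trans (nrm_sup_le _ _), (le_inf h.normW hN).trans (nrm_sup_le _ _),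
    hcomm, hp, fun Y hWY hYP hY => ?_, ?_⟩
  · obtain ⟨w, hw, n, hn, rfl⟩ := exists_mul_of_le_nrm (h.lt.le.trans hPN) (hle (mem_sup_left hx))
    exact W.mul_mem hw (hinf ⟨(P.mul_mem_cancel_left (h.lt.le hw)).1 hx, hn⟩)
  · rcases h.min (Y ⊓ P) (le_inf (le_sup_left.trans hWY) h.lt.le) inf_le_right
      ((le_inf hY h.normP).trans (nrm_inf_le _ _)) with e | e
    · refine Or.inl (le_antisymm (fun y hy => ?_) hWY)
      obtain ⟨x, hx, n, hn, rfl⟩ := exists_mul_of_le_nrm hPN (hYP hy)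
      refine mul_mem (mem_sup_left (e.le ⟨?_, hx⟩)) (mem_sup_right hn)
      exact (Y.mul_mem_cancel_right (hWY (mem_sup_right hn))).1 hy
    · exact Or.inr (le_antisymm hYP (sup_le (e.ge.trans inf_le_left) (le_sup_right.trans hWY)))
  · rw [commutator_le]
    intro y hy k hk
    obtain ⟨x, hx, n, hn, rfl⟩ := exists_mul_of_le_nrm hPN hy
    rw [show ⁅x * n, k⁆ = x * ⁅n, k⁆ * x⁻¹ * ⁅x, k⁆ by simp only [commutatorElement_def]; group]
    exact mul_mem (mem_sup_right (conj_mem_of_nrm (hPN hx) (comm_mem_self hn (hN hk.1))))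
      (mem_sup_left (h.triv (commutator_mem_commutator hx hk)))

theorem Sec.quad_push {N : Subgroup G} (h : Sec p L C P W) (hAL : A ≤ L) (hPN : P ≤ nrm N)
    (hinf : P ⊓ N ≤ W) (hq : Quad2 A (P ⊔ N) (W ⊔ N)) : Quad2 A P W := by
  intro a ha x hx
  have haP := h.normP (hAL ha)
  obtain ⟨w, hw, n, hn, e⟩ := exists_mul_of_le_nrm (h.lt.le.trans hPN) (hq a ha x (mem_sup_left hx))
  rw [e]
  refine W.mul_mem hw (hinf ⟨(P.mul_mem_cancel_left (h.lt.le hw)).1 ?_, hn⟩)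
  rw [← e]
  exact comm_mem_self (comm_mem_self hx haP) haP

variable [hp : Fact p.Prime] {F : Type} [Field F] [Fintype F] {n : ℕ}

/-- The data: a product `X = FF'` with `[F, A] ≤ V`, `[F', A'] ≤ V`, and `⟨A, A'⟩` inducing
`SL₂(F)` modulo `C`. -/
structure Fac (p : ℕ) (F : Type) [Field F] [Fintype F] (n : ℕ) (L C Q X V A A' F₁ F₂ : Subgroup G)
    (ρ : ↥L →* SL(2, F)) : Prop where
  card_field : Fintype.card F = p ^ n
  gen : L = A ⊔ A'
  surj : Function.Surjective ρ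
  ker : ∀ x : ↥L, ρ x = 1 ↔ (x : G) ∈ C
  cardA : Nat.card ↥((A.subgroupOf L).map ρ) = Fintype.card F
  cardA' : Nat.card ↥((A'.subgroupOf L).map ρ) = Fintype.card F
  normQ : L ≤ nrm Q
  leC : Q ≤ C
  pQ : IsPGroup p ↥Q
  cop : ∀ k ∈ L ⊓ C, ∃ m : ℕ, ¬ p ∣ m ∧ k ^ m ∈ Q
  rel : Rel p L C A (L ⊓ Q) (L ⊓ X)
  normX : L ≤ nrm X
  pX : IsPGroup p ↥X
  fac : ∀ x ∈ X, ∃ f ∈ F₁, ∃ f' ∈ F₂, x = f * f'
  le₁ : F₁ ≤ X
  le₂ : F₂ ≤ X
  fix₁ : ∀ a ∈ A, ∀ f ∈ F₁, ⁅a, f⁆ ∈ V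
  fix₂ : ∀ a ∈ A', ∀ f ∈ F₂, ⁅a, f⁆ ∈ V

variable {Q X V A' F₁ F₂ : Subgroup G} {ρ : ↥L →* SL(2, F)}

theorem Fac.quad_core (h : Fac p F n L C Q X V A A' F₁ F₂ ρ) {T : Subgroup G}
    (hT : L ≤ nrm T) (hind : Rel p L C A X T) (hTX : ⁅T, X⁆ ≤ W) (hs : Sec p L C P W)
    (hPT : P ≤ T) (hTle : T ≤ X) (hVW : V ≤ W) : Quad2 A P W := by
  classical
  have hAL : A ≤ L := h.gen ▸ le_sup_left
  have hA'L : A' ≤ L := h.gen ▸ le_sup_right
  have hPX : ⁅P, X⁆ ≤ W := (commutator_mono hPT le_rfl).trans hTX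
  have hWP := hs.lt.le
  have hXW : X ≤ nrm W := fun x hx => mem_nrm_of_forall fun w hw => by
    rw [show x * w * x⁻¹ = ⁅w, x⁆⁻¹ * w by rw [commutatorElement_def]; group]
    exact W.mul_mem (W.inv_mem (hPX (commutator_mem_commutator (hWP hw) hx))) hw
  have hXP : X ≤ nrm P := fun x hx => mem_nrm_of_forall fun w hw => by
    rw [show x * w * x⁻¹ = ⁅w, x⁆⁻¹ * w by rw [commutatorElement_def]; group]
    exact P.mul_mem (P.inv_mem (hWP (hPX (commutator_mem_commutator hw hx)))) hw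
  -- the module
  haveI hN : (W.subgroupOf P).Normal := normal_subgroupOf_of_le_normalizer hs.le_nrm
  letI : CommGroup (↥P ⧸ W.subgroupOf P) :=
    { (inferInstance : Group (↥P ⧸ W.subgroupOf P)) with
      mul_comm := fun a b => by
        induction a using QuotientGroup.induction_on with
        | _ a =>
          induction b using QuotientGroup.induction_on with
          | _ b =>
            rw [← QuotientGroup.mk_mul, ← QuotientGroup.mk_mul, QuotientGroup.eq, mem_subgroupOf]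
            have := hs.comm (commutator_mem_commutator (inv_mem b.2) (inv_mem a.2))
            simpa [commutatorElement_def, mul_assoc] using this }
  let M := Additive (↥P ⧸ W.subgroupOf P)
  let mk : ∀ y : G, y ∈ P → M := fun y hy => Additive.ofMul (QuotientGroup.mk (⟨y, hy⟩ : ↥P))
  have mk_mul : ∀ (y z : G) (hy : y ∈ P) (hz : z ∈ P) (hyz : y * z ∈ P),
      mk (y * z) hyz = mk y hy + mk z hz := fun _ _ _ _ _ => rfl
  have mk_inv : ∀ (y : G) (hy : y ∈ P) (hy' : y⁻¹ ∈ P), mk y⁻¹ hy' = -mk y hy := fun _ _ _ => rfl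
  have mk_congr : ∀ (y z : G) (hy : y ∈ P) (hz : z ∈ P), y = z → mk y hy = mk z hz := by
    intro y z hy hz e; subst e; rfl
  have mk_zero : ∀ (y : G) (hy : y ∈ P), mk y hy = 0 ↔ y ∈ W := fun y hy =>
    (QuotientGroup.eq_one_iff (⟨y, hy⟩ : ↥P)).trans mem_subgroupOf
  have mk_surj : ∀ m : M, ∃ y, ∃ hy : y ∈ P, mk y hy = m := fun m => by
    obtain ⟨⟨y, hy⟩, hy'⟩ := QuotientGroup.mk_surjective (Additive.toMul m)
    exact ⟨y, hy, congrArg Additive.ofMul hy'⟩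
  let cj : ↥L → (↥P →* ↥P) := fun l =>
    { toFun := fun y => ⟨l * y * (l : G)⁻¹, conj_mem_of_nrm (hs.normP l.2) y.2⟩
      map_one' := Subtype.ext (by simp)
      map_mul' := fun a b => Subtype.ext (by simp [mul_assoc]) }
  have hcj : ∀ l, W.subgroupOf P ≤ (W.subgroupOf P).comap (cj l) := fun l y hy =>
    conj_mem_of_nrm (hs.normW l.2) hy
  let σ₀ : ↥L → AddMonoid.End M := fun l =>
    MonoidHom.toAdditive (QuotientGroup.map _ _ (cj l) (hcj l))
  have hσ₀ : ∀ (l : ↥L) (y : G) (hy : y ∈ P), σ₀ l (mk y hy) =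
      mk (l * y * (l : G)⁻¹) (conj_mem_of_nrm (hs.normP l.2) hy) := fun _ _ _ => rfl
  let σ : ↥L →* AddMonoid.End M :=
    { toFun := σ₀
      map_one' := AddMonoidHom.ext fun m => by
        obtain ⟨y, hy, rfl⟩ := mk_surj m
        exact (hσ₀ 1 y hy).trans (mk_congr _ _ _ _ (by simp))
      map_mul' := fun a b => AddMonoidHom.ext fun m => by
        obtain ⟨y, hy, rfl⟩ := mk_surj m
        show σ₀ (a * b) (mk y hy) = σ₀ a (σ₀ b (mk y hy))
        rw [hσ₀, hσ₀, hσ₀]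
        exact mk_congr _ _ _ _ (by simp [mul_assoc]) }
  have hσ : ∀ (l : ↥L) (y : G) (hy : y ∈ P), σ l (mk y hy) =
      mk (l * y * (l : G)⁻¹) (conj_mem_of_nrm (hs.normP l.2) hy) := fun _ _ _ => rfl
  have hσC : ∀ l : ↥L, (l : G) ∈ C → σ l = 1 := fun l hl => AddMonoidHom.ext fun m => by
    obtain ⟨y, hy, rfl⟩ := mk_surj m
    show σ l (mk y hy) = mk y hy
    rw [hσ, ← sub_eq_zero, sub_eq_add_neg, ← mk_inv y hy (P.inv_mem hy),
      ← mk_mul _ _ _ _ (P.mul_mem (conj_mem_of_nrm (hs.normP l.2) hy) (P.inv_mem hy)), mk_zero]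
    have h1 := W.inv_mem (hs.triv (commutator_mem_commutator hy (mem_inf.2 ⟨l.2, hl⟩)))
    rwa [commutatorElement_inv, commutatorElement_def] at h1
  have hirr : ∀ Z : AddSubgroup M, (∀ l, ∀ m ∈ Z, σ l m ∈ Z) → Z = ⊥ ∨ Z = ⊤ := by
    intro Z hZ
    let Y : Subgroup G :=
      { carrier := {y | ∃ hy : y ∈ P, mk y hy ∈ Z}
        one_mem' := ⟨P.one_mem, by rw [(mk_zero 1 P.one_mem).2 W.one_mem]; exact Z.zero_mem⟩
        mul_mem' := fun {a b} ⟨ha, ha'⟩ ⟨hb, hb'⟩ =>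
          ⟨P.mul_mem ha hb, by rw [mk_mul a b ha hb]; exact Z.add_mem ha' hb'⟩
        inv_mem' := fun {a} ⟨ha, ha'⟩ =>
          ⟨P.inv_mem ha, by rw [mk_inv a ha]; exact Z.neg_mem ha'⟩ }
    have hmemY : ∀ {y : G}, y ∈ Y ↔ ∃ hy : y ∈ P, mk y hy ∈ Z := Iff.rfl
    have hY : L ≤ nrm Y := fun l hl => mem_nrm_of_forall fun y hy => by
      obtain ⟨hy, hy'⟩ := hmemY.1 hy
      exact hmemY.2 ⟨conj_mem_of_nrm (hs.normP hl) hy, (hσ ⟨l, hl⟩ y hy) ▸ hZ ⟨l, hl⟩ _ hy'⟩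
    rcases hs.min Y (fun w hw => hmemY.2 ⟨hWP hw, by rw [(mk_zero w _).2 hw]; exact Z.zero_mem⟩)
      (fun y hy => (hmemY.1 hy).1) hY with e | e
    · refine Or.inl (eq_bot_iff.2 fun m hm => ?_)
      obtain ⟨y, hy, rfl⟩ := mk_surj m
      exact AddSubgroup.mem_bot.2 ((mk_zero y hy).2 (e.le (hmemY.2 ⟨hy, hm⟩)))
    · refine Or.inr (eq_top_iff.2 fun m _ => ?_)
      obtain ⟨y, hy, rfl⟩ := mk_surj m
      exact (hmemY.1 (e.ge hy)).2
  have hMp : IsPGroup p (Multiplicative M) :=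
    (hs.isP.to_quotient (W.subgroupOf P)).of_equiv (MulEquiv.refl _)
  -- quadratic action, read in the module
  suffices key : ∀ a : ↥L, (a : G) ∈ A → ∀ m : M, σ a (σ a m - m) = σ a m - m by
    intro a ha x hx
    have haP := hs.normP (hAL ha)
    have hy : ⁅x, a⁆ ∈ P := comm_mem_self hx haP
    have hz : ⁅⁅x, a⁆, a⁆ ∈ P := comm_mem_self hy haP
    have hx' := conj_mem_of_nrm haP hx
    have hy' := conj_mem_of_nrm haP hy
    have e1 : mk ⁅x, a⁆ hy = mk x hx - mk (a * x * a⁻¹) hx' := by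
      rw [sub_eq_add_neg, ← mk_inv _ hx' (P.inv_mem hx'),
        ← mk_mul _ _ _ _ (P.mul_mem hx (P.inv_mem hx'))]
      exact mk_congr _ _ _ _ (by rw [commutatorElement_def]; group)
    have e2 : mk ⁅⁅x, a⁆, a⁆ hz = mk ⁅x, a⁆ hy - mk (a * ⁅x, a⁆ * a⁻¹) hy' := by
      rw [sub_eq_add_neg, ← mk_inv _ hy' (P.inv_mem hy'),
        ← mk_mul _ _ _ _ (P.mul_mem hy (P.inv_mem hy'))]
      exact mk_congr _ _ _ _ (by rw [commutatorElement_def ⁅x, a⁆ a]; group)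
    rw [← mk_zero _ hz, e2, sub_eq_zero, ← hσ ⟨a, hAL ha⟩ _ hy, e1, ← hσ ⟨a, hAL ha⟩ _ hx]
    have h1 := congrArg Neg.neg (key ⟨a, hAL ha⟩ ha (mk x hx))
    rw [neg_sub, ← map_neg, neg_sub] at h1
    exact h1.symm
  -- the cocycle of an element fixed modulo `P`
  have hcmem : ∀ g ∈ P, ∀ f ∈ F₁, ∀ f' ∈ F₂, g = f * f' → ∀ l ∈ L, ⁅l, f'⁆ ∈ P := by
    intro g hg f hf f' hf' e
    let H : Subgroup G :=
      { carrier := {l | l ∈ nrm P ∧ ⁅l, f'⁆ ∈ P}
        one_mem' := ⟨one_mem _, by simp⟩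
        mul_mem' := fun {a b} ha hb => ⟨mul_mem ha.1 hb.1, by
          rw [show ⁅a * b, f'⁆ = a * ⁅b, f'⁆ * a⁻¹ * ⁅a, f'⁆ by
            simp only [commutatorElement_def]; group]
          exact P.mul_mem (conj_mem_of_nrm ha.1 hb.2) ha.2⟩
        inv_mem' := fun {a} ha => ⟨inv_mem ha.1, by
          rw [show ⁅a⁻¹, f'⁆ = a⁻¹ * ⁅a, f'⁆⁻¹ * a⁻¹⁻¹ by
            simp only [commutatorElement_def]; group]
          exact conj_mem_of_nrm (inv_mem ha.1) (P.inv_mem ha.2)⟩ }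
    have hgen : L ≤ H := by
      rw [h.gen]
      refine sup_le (fun a ha => ⟨hs.normP (hAL ha), ?_⟩)
        fun a ha => ⟨hs.normP (hA'L ha), hWP (hVW (h.fix₂ a ha f' hf'))⟩
      rw [show f' = f⁻¹ * g by rw [e]; group,
        show ⁅a, f⁻¹ * g⁆ = f⁻¹ * (⁅a, f⁆⁻¹ * ⁅a, g⁆) * f⁻¹⁻¹ by
          simp only [commutatorElement_def]; group]
      refine conj_mem_of_nrm (hXP (X.inv_mem (h.le₁ hf))) (P.mul_mem ?_ ?_)
      · exact P.inv_mem (hWP (hVW (h.fix₁ a ha f hf)))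
      · rw [← commutatorElement_inv]
        exact P.inv_mem (comm_mem_self hg (hs.normP (hAL ha)))
    exact fun l hl => (hgen hl).2
  by_cases hzero : ∀ g ∈ P, ∀ f ∈ F₁, ∀ f' ∈ F₂, g = f * f' → ∀ k ∈ L ⊓ Q, ⁅k, f'⁆ ∈ W
  · -- the module is the sum of the two fixed spaces
    have hsum : fixA σ (A.subgroupOf L) ⊔ fixA σ (A'.subgroupOf L) = ⊤ := by
      rw [eq_top_iff]
      intro m _
      obtain ⟨g, hg, rfl⟩ := mk_surj m
      obtain ⟨f, hf, f', hf', e⟩ := h.fac g (hTle (hPT hg))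
      let c : ↥L → M := fun l => mk ⁅(l : G), f'⁆ (hcmem g hg f hf f' hf' e l l.2)
      have hc : ∀ a b, c (a * b) = c a + σ a (c b) := fun a b => by
        show mk _ _ = mk _ _ + σ a (mk _ _)
        rw [hσ, add_comm, ← mk_mul _ _ _ _ (P.mul_mem
          (conj_mem_of_nrm (hs.normP a.2) (hcmem g hg f hf f' hf' e b b.2))
          (hcmem g hg f hf f' hf' e a a.2))]
        exact mk_congr _ _ _ _ (by
          rw [Subgroup.coe_mul]; simp only [commutatorElement_def]; group)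
      have hck : ∀ x : ↥L, ρ x = 1 → c x = 0 := by
        intro x hx
        have hxC := (h.ker x).1 hx
        obtain ⟨k, hk, hkQ⟩ := h.cop x ⟨x.2, hxC⟩
        have hpow : ∀ j : ℕ, c (x ^ j) = j • c x := by
          intro j
          induction j with
          | zero =>
            rw [pow_zero, zero_smul]
            exact (mk_zero _ _).2 (by simp)
          | succ j ih =>
            rw [pow_succ', hc, hσC x hxC, ih, succ_nsmul']
            rfl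
        have h1 : c (x ^ k) = 0 :=
          (mk_zero _ _).2 (hzero g hg f hf f' hf' e _ ⟨(x ^ k).2, by simpa using hkQ⟩)
        rw [hpow] at h1
        exact (hMp.powEquiv' hk).injective (show k • c x = k • (0 : M) by rw [h1, nsmul_zero])
      refine mem_sup_fix σ ρ h.surj (fun x hx => hσC x ((h.ker x).1 hx)) h.card_field hMp _ _
        h.cardA (mk g hg) c hc (fun x hx => ?_) (fun x hx => (mk_zero _ _).2
          (hVW (h.fix₂ x hx f' hf'))) hck
      -- on `A`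
      have hxA : (x : G) ∈ A := hx
      have hgx := conj_mem_of_nrm (hs.normP x.2) hg
      have hd : ⁅(x : G), g⁆ ∈ P := P.mul_mem hgx (P.inv_mem hg)
      show mk _ _ = σ x (mk g hg) - mk g hg
      rw [hσ, sub_eq_add_neg, ← mk_inv g hg (P.inv_mem hg), ← mk_mul _ _ _ _
        (P.mul_mem hgx (P.inv_mem hg)), ← sub_eq_zero, sub_eq_add_neg,
        ← mk_inv _ _ (P.inv_mem (P.mul_mem hgx (P.inv_mem hg))), ← mk_mul _ _ _ _
        (P.mul_mem (hcmem g hg f hf f' hf' e x x.2) (P.inv_mem (P.mul_mem hgx (P.inv_mem hg)))),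
        mk_zero]
      have hfX := X.inv_mem (h.le₁ hf)
      have h1 : f⁻¹ * ⁅(x : G), f⁆⁻¹ * f⁻¹⁻¹ ∈ W :=
        conj_mem_of_nrm (hXW hfX) (W.inv_mem (hVW (h.fix₁ x hxA f hf)))
      have h2 : ⁅f⁻¹, ⁅(x : G), g⁆⁆ ∈ W := by
        rw [← commutatorElement_inv]
        exact W.inv_mem (hPX (commutator_mem_commutator hd hfX))
      convert W.mul_mem h1 h2 using 1
      rw [show f' = f⁻¹ * g by rw [e]; group]
      simp only [commutatorElement_def]; group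
    intro a ha m
    exact quad_of_sup_fix σ ρ h.surj (fun x hx => hσC x ((h.ker x).1 hx)) h.card_field hMp _ _
      h.cardA h.cardA' hirr hsum (x := a) ha m
  · -- otherwise the section occurs in `L ⊓ Q`
    push Not at hzero
    obtain ⟨g, hg, f, hf, f', hf', e, k₀, hk₀, hk₀W⟩ := hzero
    set D := L ⊓ Q with hD
    have hDn : L ≤ nrm D := (le_inf Subgroup.le_normalizer h.normQ).trans (nrm_inf_le _ _)
    let c : ↥L → M := fun l => mk ⁅(l : G), f'⁆ (hcmem g hg f hf f' hf' e l l.2)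
    have hc : ∀ a b, c (a * b) = c a + σ a (c b) := fun a b => by
      show mk _ _ = mk _ _ + σ a (mk _ _)
      rw [hσ, add_comm, ← mk_mul _ _ _ _ (P.mul_mem
        (conj_mem_of_nrm (hs.normP a.2) (hcmem g hg f hf f' hf' e b b.2))
        (hcmem g hg f hf f' hf' e a a.2))]
      exact mk_congr _ _ _ _ (by rw [Subgroup.coe_mul]; simp only [commutatorElement_def]; group)
    have hDC : ∀ x : ↥L, (x : G) ∈ D → σ x = 1 := fun x hx => hσC x (h.leC hx.2)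
    have hcadd : ∀ x y : ↥L, (x : G) ∈ D → c (x * y) = c x + c y := fun x y hx => by
      rw [hc, hDC x hx]; rfl
    have hcone : c 1 = 0 := (mk_zero _ _).2 (by simp)
    have hcinv : ∀ x : ↥L, c x⁻¹ = -σ x⁻¹ (c x) := fun x => by
      rw [eq_neg_iff_add_eq_zero, ← hc, inv_mul_cancel, hcone]
    have hcinvD : ∀ x : ↥L, (x : G) ∈ D → c x⁻¹ = -c x := fun x hx => by
      rw [hcinv, hDC x⁻¹ (D.inv_mem hx)]; rfl
    have hceq : ∀ l x : ↥L, (x : G) ∈ D → c (l * x * l⁻¹) = σ l (c x) := by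
      intro l x hx
      rw [hc, hc, hcinv, map_neg, act_mul', hDC x hx,
        show (1 : AddMonoid.End M) (σ l⁻¹ (c l)) = σ l⁻¹ (c l) from rfl, ← act_mul' σ l l⁻¹,
        mul_inv_cancel, act_one']
      abel
    let Kc : Subgroup G :=
      { carrier := {y | ∃ hy : y ∈ L, y ∈ D ∧ c ⟨y, hy⟩ = 0}
        one_mem' := ⟨L.one_mem, D.one_mem, hcone⟩
        mul_mem' := fun {a b} ⟨ha, ha', ha''⟩ ⟨hb, hb', hb''⟩ =>
          ⟨L.mul_mem ha hb, D.mul_mem ha' hb',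
            (hcadd ⟨a, ha⟩ ⟨b, hb⟩ ha').trans (by rw [ha'', hb'', add_zero])⟩
        inv_mem' := fun {a} ⟨ha, ha', ha''⟩ =>
          ⟨L.inv_mem ha, D.inv_mem ha', (hcinvD ⟨a, ha⟩ ha').trans (by rw [ha'', neg_zero])⟩ }
    have hmemK : ∀ {y : G}, y ∈ Kc ↔ ∃ hy : y ∈ L, y ∈ D ∧ c ⟨y, hy⟩ = 0 := Iff.rfl
    -- images of invariant subgroups of `D`
    let im : ∀ Y : Subgroup G, Y ≤ D → AddSubgroup M := fun Y hY =>
      { carrier := {m | ∃ x : ↥L, (x : G) ∈ Y ∧ c x = m}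
        zero_mem' := ⟨1, Y.one_mem, hcone⟩
        add_mem' := fun {a b} ⟨x, hx, hxa⟩ ⟨y, hy, hyb⟩ =>
          ⟨x * y, Y.mul_mem hx hy, by rw [hcadd x y (hY hx), hxa, hyb]⟩
        neg_mem' := fun {a} ⟨x, hx, hxa⟩ =>
          ⟨x⁻¹, Y.inv_mem hx, by rw [hcinvD x (hY hx), hxa]⟩ }
    have himS : ∀ (Y : Subgroup G) (hY : Y ≤ D), L ≤ nrm Y →
        ∀ l, ∀ m ∈ im Y hY, σ l m ∈ im Y hY := by
      rintro Y hY hYn l m ⟨x, hx, rfl⟩
      exact ⟨l * x * l⁻¹, conj_mem_of_nrm (hYn l.2) hx, hceq l x (hY hx)⟩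
    have hfull : ∀ m : M, ∃ x : ↥L, (x : G) ∈ D ∧ c x = m := by
      rcases hirr (im D le_rfl) (himS D le_rfl hDn) with h0 | h0
      · have h1 : c ⟨k₀, hk₀.1⟩ ∈ im D le_rfl := ⟨⟨k₀, hk₀.1⟩, hk₀, rfl⟩
        rw [h0, AddSubgroup.mem_bot] at h1
        exact absurd ((mk_zero _ _).1 h1) hk₀W
      · exact fun m => (h0.symm ▸ AddSubgroup.mem_top m : m ∈ im D le_rfl)
    have hsec : Sec p L C D Kc := by
      refine ⟨lt_of_le_not_ge (fun y hy => (hmemK.1 hy).2.1) fun hle => ?_, hDn,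
        fun l hl => mem_nrm_of_forall fun y hy => ?_, ?_, h.pQ.to_le inf_le_right,
        fun Y hKY hYD hY => ?_, ?_⟩
      · obtain ⟨_, -, h0⟩ := hmemK.1 (hle hk₀)
        exact hk₀W ((mk_zero _ _).1 h0)
      · obtain ⟨hyL, hyD, h0⟩ := hmemK.1 hy
        refine hmemK.2 ⟨L.mul_mem (L.mul_mem hl hyL) (L.inv_mem hl),
          conj_mem_of_nrm (hDn hl) hyD, ?_⟩
        exact (hceq ⟨l, hl⟩ ⟨y, hyL⟩ hyD).trans (by rw [h0, map_zero])
      · rw [commutator_le]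
        intro y hy z hz
        have hyz : ⁅y, z⁆ ∈ D := commutator_le_self D (commutator_mem_commutator hy hz)
        refine hmemK.2 ⟨hyz.1, hyz, ?_⟩
        show c ((⟨y, hy.1⟩ * ⟨z, hz.1⟩ * ⟨y, hy.1⟩⁻¹ : ↥L) * (⟨z, hz.1⟩ : ↥L)⁻¹) = 0
        rw [hcadd _ _ (conj_mem_of_nrm (hDn hy.1) hz), hceq _ _ hz, hDC _ hy, hcinvD _ hz]
        exact add_neg_cancel _
      · rcases hirr (im Y hYD) (himS Y hYD hY) with h0 | h0
        · refine Or.inl (le_antisymm (fun y hy => hmemK.2 ⟨(hYD hy).1, hYD hy, ?_⟩) hKY)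
          have h1 : c ⟨y, (hYD hy).1⟩ ∈ im Y hYD := ⟨⟨y, (hYD hy).1⟩, hy, rfl⟩
          rw [h0, AddSubgroup.mem_bot] at h1
          exact h1
        · refine Or.inr (le_antisymm hYD fun d hd => ?_)
          obtain ⟨x, hx, hxd⟩ := (h0.symm ▸ AddSubgroup.mem_top (c ⟨d, hd.1⟩) :
            c ⟨d, hd.1⟩ ∈ im Y hYD)
          have h1 : (x : G)⁻¹ * d ∈ Kc := by
            refine hmemK.2 ⟨L.mul_mem (L.inv_mem x.2) hd.1, D.mul_mem (D.inv_mem (hYD hx)) hd, ?_⟩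
            show c (x⁻¹ * ⟨d, hd.1⟩) = 0
            rw [hcadd _ _ (D.inv_mem (hYD hx)), hcinvD x (hYD hx), hxd, neg_add_cancel]
          exact (Y.mul_mem_cancel_left (Y.inv_mem hx)).1 (hKY h1)
      · rw [commutator_le]
        intro y hy z hz
        have hyz : ⁅y, z⁆ ∈ D := comm_mem_self hy (hDn hz.1)
        refine hmemK.2 ⟨hyz.1, hyz, ?_⟩
        rw [show (⟨⁅y, z⁆, hyz.1⟩ : ↥L) = ⟨y, hy.1⟩ *
          (⟨z, hz.1⟩ * (⟨y, hy.1⟩ : ↥L)⁻¹ * ⟨z, hz.1⟩⁻¹) from Subtype.ext (by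
            show ⁅y, z⁆ = y * (z * y⁻¹ * z⁻¹)
            rw [commutatorElement_def]; group),
          hcadd _ _ hy, hceq _ _ (D.inv_mem hy), hσC _ hz.2, hcinvD _ hy]
        exact add_neg_cancel _
    have hrelT : Rel p L C A D (L ⊓ T) :=
      h.rel.trans (hind.mono hAL inf_le_right (le_inf (inf_le_left.trans inf_le_left) inf_le_right)
        ((le_inf Subgroup.le_normalizer h.normX).trans (nrm_inf_le _ _)))
        ((le_inf Subgroup.le_normalizer h.normX).trans (nrm_inf_le _ _))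
    have hq := hrelT D Kc hsec (le_sup_of_le_left (le_inf le_rfl le_rfl)) (by
      rintro y ⟨hy, -, hyT⟩
      refine hmemK.2 ⟨hy.1, hy, (mk_zero _ _).2 ?_⟩
      exact hTX (commutator_mem_commutator hyT (h.le₂ hf')))
    intro a ha m
    obtain ⟨x, hx, rfl⟩ := hfull m
    obtain ⟨_, -, h0⟩ := hmemK.1 (hq a ha x hx)
    have h1 : (⁅(x : G), (a : G)⁆) ∈ D := comm_mem_self hx (hDn a.2)
    rw [show (⟨⁅⁅(x : G), (a : G)⁆, (a : G)⁆, _⟩ : ↥L) =
      ⁅x, a⁆ * (a * ⁅x, a⁆⁻¹ * a⁻¹) from Subtype.ext (by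
        show ⁅⁅(x : G), (a : G)⁆, (a : G)⁆ = ⁅(x : G), (a : G)⁆ *
          ((a : G) * ⁅(x : G), (a : G)⁆⁻¹ * (a : G)⁻¹)
        simp only [commutatorElement_def]; group),
      hcadd _ _ h1, hceq _ _ (D.inv_mem h1), hcinvD _ h1, map_neg,
      show ⁅x, a⁆ = x * (a * x⁻¹ * a⁻¹) by rw [commutatorElement_def]; group,
      hcadd _ _ hx, hceq _ _ (D.inv_mem hx), hcinvD _ hx, map_neg, map_add, map_neg] at h0
    rw [map_sub, ← sub_eq_zero, ← h0]
    abel

/-- The step from one term of a central series to the next. -/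
theorem Fac.rel_step (h : Fac p F n L C Q X V A A' F₁ F₂ ρ) {T T' : Subgroup G} (hT : L ≤ nrm T)
    (hT' : L ≤ nrm T') (hT'T : T' ≤ T) (hTle : T ≤ X) (hVT : V ≤ T') (hTX : ⁅T, X⁆ ≤ T')
    (hind : Rel p L C A X T) : Rel p L C A T T' := by
  intro P₀ W₀ hs₀ hc₀ hD'
  have hAL : A ≤ L := h.gen ▸ le_sup_left
  refine hs₀.quad_restrict hAL hc₀ ?_
  have hs := hs₀.restrict hT hc₀
  have hPn : P₀ ⊓ T ≤ nrm T' := fun x hx => mem_nrm_of_forall fun y hy => by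
    rw [show x * y * x⁻¹ = ⁅y, x⁆⁻¹ * y by rw [commutatorElement_def]; group]
    exact T'.mul_mem (T'.inv_mem (hTX (commutator_mem_commutator (hT'T hy) (hTle hx.2)))) hy
  have hinf : P₀ ⊓ T ⊓ T' ≤ W₀ ⊓ T :=
    le_inf ((inf_le_inf_right T' inf_le_left).trans hD') (inf_le_left.trans inf_le_right)
  have hle : P₀ ⊓ T ⊔ T' ≤ T := sup_le inf_le_right hT'T
  refine hs.quad_push hAL hPn hinf (h.quad_core hT hind (hTX.trans le_sup_right)
    (hs.push hT' hPn hinf ?_ (h.pX.to_le (hle.trans hTle))) hle hTle (hVT.trans le_sup_right))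
  exact ((commutator_mono hle (hle.trans hTle)).trans hTX).trans le_sup_right

end Cfsg.Agent.OddFocal.Three
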