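import Cfsg.Agent.OddFocal.Control
import Cfsg.Agent.LAE65.Push.Main

/-!
The join of the minimal centrally large subgroups of the Baumann subgroup, as a functor.
-/

set_option autoImplicit false
set_option linter.style.haveILetI false
set_option linter.unusedSectionVars false

open Subgroup Cfsg

namespace Cfsg.Agent.OddFocal.Three

open ConjFunctor

universe u

variable {G H : Type u} [Group G] [Group H]

/-- The join of the minimal centrally large subgroups of `B`, inside the whole group. -/
def mclImage (B : Subgroup G) : Subgroup G := (minimalCentrallyLargeJoin ↥B).map B.subtype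

theorem mclImage_le (B : Subgroup G) : mclImage B ≤ B := map_subtype_le _

variable [Finite G]

/-- Isomorphisms preserve minimal centrally large subgroups. -/
theorem mcl_map_equiv {A B : Type*} [Group A] [Group B] [Finite A] (e : A ≃* B) {R : Subgroup A}
    (hR : IsMinimalCentrallyLarge R) : IsMinimalCentrallyLarge (R.map e.toMonoidHom) := by
  haveI : Finite B := Finite.of_equiv A e.toEquiv
  have hval : ∀ X : Subgroup A, Nat.card ↥(X.map e.toMonoidHom) *
      Nat.card ↥(center ↥(X.map e.toMonoidHom)) = Nat.card ↥X * Nat.card ↥(center ↥X) := by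
    intro X
    obtain ⟨h1, h2, -⟩ := LAE65.Push.card_eq_of_map_eq (p := 2) (f := MonoidHom.id B)
      (f' := e.toMonoidHom) (Q := X.map e.toMonoidHom) (Q' := X) Function.injective_id e.injective
      (map_id _)
    rw [h1, h2]
  have hsurj : ∀ Y : Subgroup B, (Y.comap e.toMonoidHom).map e.toMonoidHom = Y := fun Y =>
    map_comap_eq_self_of_surjective e.surjective Y
  have hmax : maxCentralProduct B = maxCentralProduct A := by
    unfold maxCentralProduct
    congr 1
    ext k
    constructor
    · rintro ⟨Y, rfl⟩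
      exact ⟨Y.comap e.toMonoidHom, by rw [← hval, hsurj]⟩
    · rintro ⟨X, rfl⟩
      exact ⟨X.map e.toMonoidHom, hval X⟩
  refine ⟨(hval R).trans (hR.1.trans hmax.symm), fun Y hY hYc => ?_⟩
  rw [← hsurj Y] at hYc ⊢
  rw [hR.2 _ ?_ ((hval _).symm.trans (hYc.trans hmax))]
  refine (Subgroup.comap_mono hY).trans ?_
  rw [comap_map_eq_self_of_injective e.injective]

theorem map_mclImage (f : G →* H) (hf : Function.Injective f) (B : Subgroup G) :
    (mclImage B).map f = mclImage (B.map f) := by
  haveI : Finite ↥(B.map f) := Set.Finite.to_subtype ((Set.toFinite (B : Set G)).image f)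
  let e : ↥B ≃* ↥(B.map f) := B.equivMapOfInjective f hf
  have he : (B.map f).subtype.comp e.toMonoidHom = f.comp B.subtype := MonoidHom.ext fun x => rfl
  have key : ∀ {R : Subgroup ↥B}, IsMinimalCentrallyLarge R →
      IsMinimalCentrallyLarge (R.map e.toMonoidHom) := fun {R} hR => mcl_map_equiv e hR
  have key' : ∀ {R : Subgroup ↥(B.map f)}, IsMinimalCentrallyLarge R →
      IsMinimalCentrallyLarge (R.comap e.toMonoidHom) := fun {R} hR =>
    (Subgroup.comap_equiv_eq_map_symm' e R).symm ▸ mcl_map_equiv e.symm hR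
  have hjoin : (minimalCentrallyLargeJoin ↥B).map e.toMonoidHom =
      minimalCentrallyLargeJoin ↥(B.map f) := by
    refine le_antisymm (map_le_iff_le_comap.2 (sSup_le fun R hR =>
      map_le_iff_le_comap.1 (le_sSup (key hR)))) (sSup_le fun R hR => ?_)
    exact (map_comap_eq_self_of_surjective e.surjective R).symm.le.trans
      (Subgroup.map_mono (le_sSup (key' hR)))
  rw [mclImage, mclImage, ← hjoin, Subgroup.map_map, Subgroup.map_map, he]

theorem mclImage_ne_bot {B : Subgroup G} (hB : B ≠ ⊥) : mclImage B ≠ ⊥ := by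
  intro e
  obtain ⟨Q₀, hQ₀⟩ := LAE65.exists_cl (P := ↥B)
  obtain ⟨R, -, hR⟩ := LAE65.exists_mcl_le hQ₀
  have hR0 : R = ⊥ := (map_eq_bot_iff_of_injective _ B.subtype_injective).1
    (le_bot_iff.1 (e ▸ Subgroup.map_mono (le_sSup hR)))
  have h1 := (LAE65.cl_iff.1 hR.1).2
  rw [hR0] at h1
  refine hB (eq_bot_iff.2 fun x hx => ?_)
  have h2 : (⟨x, hx⟩ : ↥B) ∈ centralizer ((⊥ : Subgroup ↥B) : Set ↥B) :=
    mem_centralizer_iff.2 fun y hy => by rw [mem_bot.1 hy, one_mul, mul_one]
  exact mem_bot.2 (congrArg Subtype.val (mem_bot.1 (h1 h2)))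

/-- `K(Q) = MCL(B(Q))`. -/
def mclBaumann (p : ℕ) : ∀ (Q : Type u) [Group Q], Subgroup Q :=
  fun Q _ => mclImage (baumannSubgroupOf p (⊤ : Subgroup Q))

variable {p : ℕ} [hp : Fact p.Prime]

theorem isCharPFunctor_mclBaumann : IsCharPFunctor.{u} p (mclBaumann p) := by
  refine ⟨fun Q _ _ hQ hnt => mclImage_ne_bot fun e => ?_, fun Q R _ _ _ _ φ => ?_⟩
  · haveI := hnt
    have hJ : thompsonSubgroupOf p (⊤ : Subgroup Q) ≤ ⊥ :=
      (LAE65.Block.thompson_le_baumann _).trans e.le
    obtain ⟨T⟩ : Nonempty (Sylow p Q) := inferInstance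
    have hT : (T : Subgroup Q) = ⊤ := (T.is_maximal' (hQ.to_subgroup ⊤) le_top).symm
    refine Block82.thompsonSubgroupOf_ne_bot (T := T) ?_ (le_bot_iff.1 (hT.symm ▸ hJ))
    rw [hT]; exact top_ne_bot
  · show (mclImage _).map φ.toMonoidHom = mclImage _
    rw [map_mclImage _ φ.injective, baumann_map_injective _ φ.injective,
      map_top_of_surjective φ.toMonoidHom φ.surjective]

theorem inducedFunctor_mclBaumann (P : Subgroup G) :
    inducedFunctor (mclBaumann p) P = mclImage (baumannSubgroupOf p P) := by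
  show (mclImage (baumannSubgroupOf p (⊤ : Subgroup ↥P))).map P.subtype = _
  rw [map_mclImage _ P.subtype_injective, baumann_map_injective _ P.subtype_injective,
    ← MonoidHom.range_eq_map, range_subtype]

/-- The centre as a functor. -/
def centerFunctor : ∀ (Q : Type u) [Group Q], Subgroup Q := fun Q _ => Subgroup.center Q

theorem isCharPFunctor_centerFunctor : IsCharPFunctor.{u} p centerFunctor := by
  refine ⟨fun Q _ _ hQ hnt => ?_, fun Q R _ _ _ _ φ => ?_⟩
  · haveI := hnt
    haveI := hQ.center_nontrivial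
    exact (nontrivial_iff_ne_bot _).1 ‹_›
  · ext x
    constructor
    · rintro ⟨y, hy, rfl⟩
      refine mem_center_iff.2 fun r => ?_
      obtain ⟨q, rfl⟩ := φ.surjective r
      show φ q * φ y = φ y * φ q
      rw [← map_mul, ← map_mul, mem_center_iff.1 hy q]
    · intro hx
      refine ⟨φ.symm x, mem_center_iff.2 fun q => φ.injective ?_, φ.apply_symm_apply x⟩
      rw [map_mul, map_mul, φ.apply_symm_apply]
      exact mem_center_iff.1 hx _

theorem inducedFunctor_centerFunctor (P : Subgroup G) :
    inducedFunctor centerFunctor P = P ⊓ centralizer (P : Set G) := by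
  ext x
  constructor
  · rintro ⟨y, hy, rfl⟩
    exact ⟨y.2, mem_centralizer_iff.2 fun u hu =>
      congrArg Subtype.val (mem_center_iff.1 hy ⟨u, hu⟩)⟩
  · rintro ⟨hx, hx'⟩
    exact ⟨⟨x, hx⟩, mem_center_iff.2 fun u => Subtype.ext (mem_centralizer_iff.1 hx' u u.2), rfl⟩

end Cfsg.Agent.OddFocal.Three
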