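import Cfsg.Agent.OddFocal.Three.Factor

/-!
All sections of `H` are quadratic: descending along the lower central series outside the
factorised subgroup, ascending inside it.
-/

set_option autoImplicit false
set_option linter.unusedSectionVars false
set_option linter.style.haveILetI false

open Subgroup Cfsg
open scoped commutatorElement MatrixGroups

namespace Cfsg.Agent.OddFocal.Three

open ConjFunctor

variable {G : Type*} [Group G] [Finite G] {p : ℕ} [hp : Fact p.Prime]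

theorem exists_iterCommutator_eq_bot {X : Subgroup G} (hX : IsPGroup p ↥X) :
    ∃ n, iterCommutator X X n = ⊥ := by
  obtain ⟨n, hn⟩ := (Subgroup.isNilpotent_iff_lowerCentralSeries X).1 hX.isNilpotent
  refine ⟨n, ?_⟩
  have key : ∀ k, iterCommutator X X k = X.lowerCentralSeries k := by
    intro k
    induction k with
    | zero => rfl
    | succ k ih =>
      show ⁅iterCommutator X X k, X⁆ = _
      rw [ih, Subgroup.lowerCentralSeries_succ]
  rw [key, hn]

variable {L C A A' Q : Subgroup G} {F : Type} [Field F] [Fintype F] {n : ℕ}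
  {X V F₁ F₂ : Subgroup G} {ρ : ↥L →* SL(2, F)}

theorem Fac.rel_bot (h : Fac p F n L C Q X V A A' F₁ F₂ ρ) (hV : L ≤ nrm V) (hVX : V ≤ X)
    (hVc : X ≤ centralizer (V : Set G)) (hVq : ∀ a ∈ A, ∀ v ∈ V, ⁅⁅v, a⁆, a⁆ = 1) :
    Rel p L C A X ⊥ := by
  have hAL : A ≤ L := h.gen ▸ le_sup_left
  have hn : ∀ i, L ≤ nrm (iterCommutator X X i) := by
    intro i
    induction i with
    | zero => exact h.normX
    | succ i ih =>
      intro l hl
      rw [mem_nrm_iff_cnj]
      show (⁅iterCommutator X X i, X⁆).map (MulAut.conj l).toMonoidHom = ⁅iterCommutator X X i, X⁆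
      rw [map_commutator]
      exact congrArg₂ (fun a b => ⁅a, b⁆) (mem_nrm_iff_cnj.1 (ih hl))
        (mem_nrm_iff_cnj.1 (h.normX hl))
  set T : ℕ → Subgroup G := fun i => iterCommutator X X i ⊔ V with hT
  have hTn : ∀ i, L ≤ nrm (T i) := fun i => (le_inf (hn i) hV).trans (nrm_sup_le _ _)
  have hle : ∀ i, iterCommutator X X i ≤ X := fun i =>
    iterCommutator_le_self le_normalizer i
  have hVXc : ⁅V, X⁆ = ⊥ := commutator_eq_bot_iff_le_centralizer.2 (le_centralizer_iff.1 hVc)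
  have hTX : ∀ i, ⁅T i, X⁆ ≤ T (i + 1) := by
    intro i
    rw [commutator_le]
    intro y hy x hx
    obtain ⟨s, hs, v, hv, rfl⟩ := exists_mul_of_le_nrm
      (((hle i).trans hVc).trans (centralizer_le_normalizer _)) hy
    have h1 : ⁅v, x⁆ = 1 := mem_bot.1 (hVXc ▸ commutator_mem_commutator hv hx)
    rw [show ⁅s * v, x⁆ = s * ⁅v, x⁆ * s⁻¹ * ⁅s, x⁆ by simp only [commutatorElement_def]; group,
      h1, mul_one, mul_inv_cancel, one_mul]
    exact mem_sup_left (commutator_mem_commutator hs hx)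
  have key : ∀ i, Rel p L C A X (T i) := by
    intro i
    induction i with
    | zero => exact Rel.of_le (le_sup_left (a := X))
    | succ i ih =>
      refine ih.trans (h.rel_step (hTn i) (hTn _) ?_ (sup_le (hle i) hVX) le_sup_right (hTX i) ih)
        (hTn i)
      exact sup_le_sup_right (iterCommutator_antitone le_normalizer (Nat.le_succ i)) V
  obtain ⟨k, hk⟩ := exists_iterCommutator_eq_bot h.pX
  have hVbot : Rel p L C A V ⊥ := fun P W hs hc _ => hs.quad_restrict hAL hc fun a ha x hx => by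
    rw [hVq a ha x hx.2]; exact one_mem _
  have h1 := key k
  simp only [hT, hk, bot_sup_eq] at h1
  exact h1.trans hVbot hV

/-- Sections of a group `H` are quadratic if those of the centralizer `X` in `H` of a subgroup
fixed by `L` modulo the central subgroup `V` are. -/
theorem rel_group {H I : Subgroup G} [H.Normal] (hHp : IsPGroup p ↥H) (hAL : A ≤ L)
    (hXn : L ≤ nrm X) (hX : Rel p L C A X ⊥) (hIH : I ≤ H)
    (hVc : H ≤ centralizer (V : Set G)) (hIfix : ∀ l ∈ L, ∀ x ∈ I, ⁅l, x⁆ ∈ V)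
    (hker : H ⊓ centralizer (I : Set G) ≤ X) : Rel p L C A H ⊥ := by
  set Γ : ℕ → Subgroup G := fun i => iterCommutator H H i with hΓ
  haveI hΓn : ∀ i, (Γ i).Normal := fun i => by
    induction i with
    | zero => assumption
    | succ i ih =>
      haveI := ih
      exact Subgroup.commutator_normal _ _
  have hΓle : ∀ i, Γ i ≤ H := fun i => iterCommutator_le_self le_normalizer i
  have hanti : ∀ {i j}, i ≤ j → Γ j ≤ Γ i := fun h => iterCommutator_antitone le_normalizer h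
  have hΓc : ∀ i, ∀ y ∈ Γ i, ∀ x ∈ H, ⁅y, x⁆ ∈ Γ (i + 1) := fun i y hy x hx =>
    commutator_mem_commutator hy hx
  have hLn : ∀ i, L ≤ nrm (Γ i) := fun i => by rw [nrm_eq_top]; exact le_top
  obtain ⟨N, hN⟩ := exists_iterCommutator_eq_bot hHp
  suffices key : ∀ j i, N ≤ i + j → Rel p L C A (Γ i) ⊥ from key N 0 (by omega)
  intro j
  induction j with
  | zero =>
    intro i hi
    exact Rel.of_le ((hanti (show N ≤ i by omega)).trans hN.le)
  | succ j ih =>
    intro i hi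
    have hbot : Rel p L C A (Γ i ⊓ X) ⊥ :=
      hX.mono hAL inf_le_right inf_le_right ((le_inf (hLn i) hXn).trans (nrm_inf_le _ _))
    refine Rel.trans ?_ hbot ((le_inf (hLn i) hXn).trans (nrm_inf_le _ _))
    -- the kernels of the commutator maps
    let K : ℕ → Subgroup G := fun k =>
      { carrier := {d | d ∈ Γ i ∧ ∀ x ∈ I, ⁅d, x⁆ ∈ Γ (i + k)}
        one_mem' := ⟨one_mem _, fun x _ => by simp⟩
        mul_mem' := fun {a b} ha hb => ⟨mul_mem ha.1 hb.1, fun x hx => by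
          rw [show ⁅a * b, x⁆ = a * ⁅b, x⁆ * a⁻¹ * ⁅a, x⁆ by
            simp only [commutatorElement_def]; group]
          exact mul_mem ((hΓn _).conj_mem _ (hb.2 x hx) a) (ha.2 x hx)⟩
        inv_mem' := fun {a} ha => ⟨inv_mem ha.1, fun x hx => by
          rw [show ⁅a⁻¹, x⁆ = a⁻¹ * ⁅a, x⁆⁻¹ * a⁻¹⁻¹ by simp only [commutatorElement_def]; group]
          exact (hΓn _).conj_mem _ (inv_mem (ha.2 x hx)) a⁻¹⟩ }
    have hconj : ∀ l ∈ L, ∀ d ∈ H, ∀ x ∈ I,
        ⁅l * d * l⁻¹, x⁆ = l * ⁅d, x⁆ * l⁻¹ := by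
      intro l hl d hd x hx
      set v := ⁅l, x⁆ with hv
      have e1 : l * d * l⁻¹ ∈ H := (inferInstance : H.Normal).conj_mem d hd l
      have e2 : l * d * l⁻¹ * v = v * (l * d * l⁻¹) :=
        (mem_centralizer_iff.1 (hVc e1) v (hIfix l hl x hx)).symm
      have e3 : l * ⁅d, x⁆ * l⁻¹ = ⁅l * d * l⁻¹, v * x⁆ := by
        rw [hv]; simp only [commutatorElement_def]; group
      rw [e3, show ⁅l * d * l⁻¹, v * x⁆ = ⁅l * d * l⁻¹, v⁆ * (v * ⁅l * d * l⁻¹, x⁆ * v⁻¹) by
        simp only [commutatorElement_def]; group, commutatorElement_eq_one_iff_mul_comm.2 e2,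
        one_mul]
      have e4 : ⁅l * d * l⁻¹, x⁆ ∈ H :=
        commutator_le_self H (commutator_mem_commutator e1 (hIH hx))
      rw [mem_centralizer_iff.1 (hVc e4) v (hIfix l hl x hx), mul_inv_cancel_right]
    have hKn : ∀ k, L ≤ nrm (K k) := fun k l hl => mem_nrm_of_forall fun d hd =>
      ⟨(hΓn i).conj_mem d hd.1 l, fun x hx => by
        rw [hconj l hl d (hΓle i hd.1) x hx]; exact (hΓn _).conj_mem _ (hd.2 x hx) l⟩
    have hK : ∀ k, Rel p L C A (Γ i) (K (k + 1)) := by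
      intro k
      induction k with
      | zero => exact Rel.of_le fun d hd => ⟨hd, fun x hx => hΓc i d hd x (hIH hx)⟩
      | succ k ihk =>
        refine ihk.trans ?_ (hKn _)
        refine Rel.of_family (E := Γ (i + (k + 1))) (E' := Γ (i + (k + 1) + 1))
          ((ih _ (by omega)).mono hAL le_rfl (inf_le_right.trans bot_le) (hLn _)) hAL (hKn _)
          (hanti (Nat.le_succ _)) (hHp.to_le (hΓle _)) (fun x d => ⁅d, x⁆) (I : Set G)
          (fun x hx d hd => hd.2 x hx) ?_ ?_ ?_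
        · intro x hx d hd d' hd'
          rw [show (⁅d, x⁆ * ⁅d', x⁆)⁻¹ * ⁅d * d', x⁆ =
            ⁅⁅d', x⁆⁻¹, ⁅d, x⁆⁻¹⁆ * (⁅d, x⁆⁻¹ * ⁅d', x⁆⁻¹ * ⁅d, ⁅d', x⁆⁆ *
              (⁅d, x⁆⁻¹ * ⁅d', x⁆⁻¹)⁻¹) by
              simp only [commutatorElement_def]; group]
          have h1 : ⁅⁅d', x⁆⁻¹, ⁅d, x⁆⁻¹⁆ ∈ Γ (i + (k + 1) + 1) :=
            hΓc _ _ (inv_mem (hd'.2 x hx)) _ (hΓle _ (inv_mem (hd.2 x hx)))
          have h2 : ⁅d, ⁅d', x⁆⁆ ∈ Γ (i + (k + 1) + 1) := by
            rw [← commutatorElement_inv]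
            exact inv_mem (hΓc _ _ (hd'.2 x hx) _ (hΓle i hd.1))
          exact mul_mem h1 ((hΓn _).conj_mem _ h2 _)
        · intro x hx l hl d hd
          rw [hconj l hl d (hΓle i hd.1) x hx, inv_mul_cancel]
          exact one_mem _
        · exact fun d hd h => ⟨hd.1, fun x hx => by rw [← add_assoc]; exact h x hx⟩
    refine (hK N).trans (Rel.of_le fun d hd => ⟨hd.1, hker ⟨hΓle i hd.1, ?_⟩⟩) (hKn _)
    refine mem_centralizer_iff.2 fun x hx => (commutatorElement_eq_one_iff_mul_comm.1 ?_).symm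
    exact mem_bot.1 (hN ▸ hanti (show N ≤ i + (N + 1) by omega) (hd.2 x hx))

/-- A chief factor of `G` is generated, over a normal subgroup `N`, by minimal `N`-invariant
sections; the same for `L` normalised by `N`. -/
theorem le_sSup_minimal {N L : Subgroup G} (hNL : N ≤ nrm L) {P W : Subgroup G} (hlt : W < P)
    (hP : N ≤ nrm P) (hW : N ≤ nrm W) (hLN : L ≤ N)
    (hmin : ∀ Y : Subgroup G, W ≤ Y → Y ≤ P → N ≤ nrm Y → Y = W ∨ Y = P) :
    P ≤ sSup {Y : Subgroup G | W < Y ∧ Y ≤ P ∧ L ≤ nrm Y ∧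
      ∀ Z : Subgroup G, W ≤ Z → Z ≤ Y → L ≤ nrm Z → Z = W ∨ Z = Y} := by
  set 𝒮 := {Y : Subgroup G | W < Y ∧ Y ≤ P ∧ L ≤ nrm Y ∧
    ∀ Z : Subgroup G, W ≤ Z → Z ≤ Y → L ≤ nrm Z → Z = W ∨ Z = Y}
  obtain ⟨Y₀, ⟨hY1, hY2, hY3⟩, hY4⟩ := Set.Finite.exists_minimal
    (s := {Y : Subgroup G | W < Y ∧ Y ≤ P ∧ L ≤ nrm Y}) (Set.toFinite _)
    ⟨P, hlt, le_rfl, hLN.trans hP⟩
  have hY₀ : Y₀ ∈ 𝒮 := ⟨hY1, hY2, hY3, fun Z hWZ hZY hZ => by
    rcases eq_or_lt_of_le hWZ with e | e
    · exact Or.inl e.symm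
    · exact Or.inr (le_antisymm hZY (hY4 ⟨e, hZY.trans hY2, hZ⟩ hZY))⟩
  have hmap : ∀ n ∈ N, ∀ Y ∈ 𝒮, Y.map (MulAut.conj n).toMonoidHom ∈ 𝒮 := by
    intro n hn Y hY
    have hc : ∀ {Z : Subgroup G}, n ∈ nrm Z → Z.map (MulAut.conj n).toMonoidHom = Z :=
      fun h => mem_nrm_iff_cnj.1 h
    have hinj : Function.Injective (MulAut.conj n).toMonoidHom := (MulAut.conj n).injective
    have hnrm : ∀ {Z : Subgroup G}, L ≤ nrm Z → L ≤ nrm (Z.map (MulAut.conj n).toMonoidHom) :=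
      fun {Z} h => by
        rw [← hc (hNL hn)]
        exact (Subgroup.map_mono h).trans (le_normalizer_map _)
    refine ⟨?_, ?_, hnrm hY.2.2.1, fun Z hWZ hZY hZ => ?_⟩
    · rw [← hc (hW hn)]; exact (map_lt_map_iff_of_injective hinj).2 hY.1
    · rw [← hc (hP hn)]; exact Subgroup.map_mono hY.2.1
    · have hZ' : (Z.comap (MulAut.conj n).toMonoidHom).map (MulAut.conj n).toMonoidHom = Z :=
        map_comap_eq_self_of_surjective (MulAut.conj n).surjective Z
      have hZn : L ≤ nrm (Z.comap (MulAut.conj n).toMonoidHom) := by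
        intro l hl
        have h1 : (MulAut.conj n) l ∈ nrm Z := hZ ((hc (hNL hn)) ▸ mem_map_of_mem _ hl)
        exact le_normalizer_comap (MulAut.conj n).toMonoidHom h1
      rcases hY.2.2.2 (Z.comap (MulAut.conj n).toMonoidHom)
        (by rw [← map_le_iff_le_comap, hc (hW hn)]; exact hWZ)
        ((Subgroup.comap_mono hZY).trans (comap_map_eq_self_of_injective hinj Y).le) hZn with e | e
      · exact Or.inl (by rw [← hZ', e, hc (hW hn)])
      · exact Or.inr (by rw [← hZ', e])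
  have hNS : N ≤ nrm (sSup 𝒮) := fun n hn => mem_nrm_of_forall fun x hx => by
    have h1 : (sSup 𝒮).map (MulAut.conj n).toMonoidHom ≤ sSup 𝒮 := by
      rw [map_le_iff_le_comap]
      exact sSup_le fun Y hY => map_le_iff_le_comap.1 (le_sSup (hmap n hn Y hY))
    exact h1 ⟨x, hx, rfl⟩
  rcases hmin (sSup 𝒮) (hY₀.1.le.trans (le_sSup hY₀)) (sSup_le fun Y hY => hY.2.1) hNS with e | e
  · exact absurd ((le_sSup hY₀).trans e.le) hY₀.1.not_ge
  · exact e.ge

end Cfsg.Agent.OddFocal.Three
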