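import Cfsg.Agent.OddFocal.Three.Pair
import Cfsg.Agent.OddFocal.Three.BadFactor
import Cfsg.Agent.OddFocal.Three.Functor

/-!
For a `3`-group `S` the centralizer of `Z(S)` and the normalizer of `K = MCL(B(S))` give the focal
subgroup in every group with Sylow subgroup `S`.
-/

set_option autoImplicit false
set_option linter.style.haveILetI false
set_option linter.unusedSectionVars false

open Subgroup Cfsg
open scoped commutatorElement IsMulCommutative

namespace Cfsg.Agent.OddFocal.Three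

open ConjFunctor

universe u

variable {p : ℕ} [hp : Fact p.Prime] {G : Type u} [Group G] [Finite G]

/-- The two functors. -/
def pairFam (p : ℕ) : Set (∀ (Q : Type u) [Group Q], Subgroup Q) := {centerFunctor, mclBaumann p}

theorem isCharPFunctor_pairFam : ∀ W ∈ pairFam.{u} p, IsCharPFunctor.{u} p W := by
  rintro W (rfl | rfl)
  · exact isCharPFunctor_centerFunctor
  · exact isCharPFunctor_mclBaumann

theorem eq_top_of_uniq {S : Sylow p G} {M : Subgroup G} (hMt : M ≠ ⊤)
    (hu : ∀ H : Subgroup G, (S : Subgroup G) ≤ H → H ≠ ⊤ → H ≤ M)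
    (hSn : ¬ (S : Subgroup G).Normal) {C : Subgroup G} [C.Normal] (hSC : (S : Subgroup G) ≤ C) :
    C = ⊤ := by
  by_contra hC
  refine hMt (top_le_iff.1 ?_)
  rw [← Sylow.normalizer_sup_eq_top' S hSC]
  exact sup_le (hu _ le_normalizer fun e => hSn (normalizer_eq_top_iff.1 e)) (hu _ hSC hC)

/-- If the elements of order `p` of the centre of a Sylow subgroup are central, and the centre
lies in an abelian normal subgroup below the Sylow subgroup, then the centre is central. -/
theorem center_sylow_central (S : Sylow p G) (A : Subgroup G) [A.Normal] [IsMulCommutative ↥A]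
    (hAS : A ≤ (S : Subgroup G)) (hZA : (S : Subgroup G) ⊓ centralizer (S : Set G) ≤ A)
    (h1 : omegaOneCenter p (S : Subgroup G) ≤ Subgroup.center G) :
    (S : Subgroup G) ⊓ centralizer (S : Set G) ≤ Subgroup.center G := by
  classical
  suffices key : ∀ (j : ℕ), ∀ z ∈ (S : Subgroup G) ⊓ centralizer (S : Set G),
      z ^ p ^ j = 1 → z ∈ Subgroup.center G by
    intro z hz
    obtain ⟨j, hj⟩ := S.isPGroup' ⟨z, hz.1⟩
    exact key j z hz (congrArg Subtype.val hj)
  intro j
  induction j with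
  | zero => intro z _ h; rw [pow_zero, pow_one] at h; rw [h]; exact one_mem _
  | succ j ih =>
    intro z hz hzj
    have hzp : z ^ p ∈ Subgroup.center G := ih _ (pow_mem hz p) (by
      rw [← pow_mul, ← pow_succ']; exact hzj)
    haveI : Fintype (G ⧸ (S : Subgroup G)) := Fintype.ofFinite _
    let zA : ↥A := ⟨z, hZA hz⟩
    let φ : G →* MulAut ↥A := MulAut.conjNormal
    have hφ : ∀ (g : G) (a : ↥A), ((φ g a : ↥A) : G) = g * a * g⁻¹ := fun g a =>
      MulAut.conjNormal_apply g a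
    have hfixz : ∀ s ∈ (S : Subgroup G), φ s zA = zA := fun s hs => Subtype.ext (by
      rw [hφ]
      show s * z * s⁻¹ = z
      rw [mem_centralizer_iff.1 hz.2 s hs, mul_inv_cancel_right])
    set N := ∏ q : G ⧸ (S : Subgroup G), φ q.out zA with hN
    have hNfix : ∀ g, φ g N = N := by
      intro g
      rw [hN, map_prod]
      calc ∏ q : G ⧸ (S : Subgroup G), φ g (φ q.out zA)
          = ∏ q : G ⧸ (S : Subgroup G), φ (g • q).out zA := Finset.prod_congr rfl fun q _ => by
            have e : (g * q.out)⁻¹ * (g • q).out ∈ (S : Subgroup G) := by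
              rw [← QuotientGroup.eq, QuotientGroup.out_eq']
              nth_rewrite 2 [← QuotientGroup.out_eq' q]
              rfl
            conv_rhs => rw [show (g • q).out = g * q.out * ((g * q.out)⁻¹ * (g • q).out) by group,
              map_mul, map_mul]
            exact (congrArg (fun t => φ g (φ q.out t)) (hfixz _ e)).symm
        _ = _ := Equiv.prod_comp (MulAction.toPerm g) fun q : G ⧸ (S : Subgroup G) => φ q.out zA
    have hNc : (N : G) ∈ Subgroup.center G := mem_center_iff.2 fun g => by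
      have h2 := congrArg Subtype.val (hNfix g)
      rw [hφ] at h2
      exact mul_inv_eq_iff_eq_mul.1 h2
    set n := Fintype.card (G ⧸ (S : Subgroup G)) with hn
    have hNp : N ^ p = (zA ^ p) ^ n := by
      rw [hN, ← Finset.prod_pow, hn, ← Finset.card_univ, ← Finset.prod_const]
      refine Finset.prod_congr rfl fun q _ => ?_
      rw [← map_pow]
      refine Subtype.ext ?_
      rw [hφ, SubmonoidClass.coe_pow, mem_center_iff.1 hzp q.out, mul_inv_cancel_right]
    have hw : z ^ n * (N : G)⁻¹ ∈ omegaOneCenter p (S : Subgroup G) := by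
      refine Thompson.mem_omegaOne ⟨Subgroup.mul_mem _ (Subgroup.pow_mem _ hz.1 n)
        (Subgroup.inv_mem _ (hAS N.2)), Subgroup.mul_mem _ (Subgroup.pow_mem _ hz.2 n)
          (Subgroup.inv_mem _ (mem_centralizer_iff.2 fun s _ => mem_center_iff.1 hNc s))⟩ ?_
      have e : ((zA ^ n * N⁻¹) ^ p : ↥A) = 1 := by
        rw [mul_pow, inv_pow, hNp, ← pow_mul, ← pow_mul, mul_comm n p, mul_inv_cancel]
      exact congrArg Subtype.val e
    have hzn : z ^ n ∈ Subgroup.center G := by
      have h2 := mul_mem (h1 hw) hNc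
      rwa [inv_mul_cancel_right] at h2
    have hcop : n.Coprime (p ^ (j + 1)) := by
      refine Nat.Coprime.pow_right _ (Nat.Coprime.symm (hp.out.coprime_iff_not_dvd.2 ?_))
      rw [hn, ← Nat.card_eq_fintype_card, ← Subgroup.index_eq_card]
      exact S.not_dvd_index
    have h3 : orderOf (z : G) ∣ p ^ (j + 1) := orderOf_dvd_of_pow_eq_one hzj
    obtain ⟨m, hm⟩ := exists_pow_eq_self_of_coprime (Nat.Coprime.coprime_dvd_right h3 hcop)
    rw [← hm]
    exact pow_mem hzn m

/-- A constrained group all of whose proper subgroups and quotients are controlled is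
controlled. -/
theorem pair_controls_of_minimal (h3 : p = 3)
    (hsub : ∀ M : Subgroup G, M ≠ ⊤ → FamilyControlsTransferIn p (indFam (pairFam p) ↥M) ⊤)
    (hquot : ∀ (N : Subgroup G) [N.Normal], N ≠ ⊥ →
      FamilyControlsTransferIn p (indFam (pairFam p) (G ⧸ N)) ⊤) :
    FamilyControlsTransferIn p (indFam (pairFam p) G) ⊤ := by
  by_contra hG
  have h𝓦 := isCharPFunctor_pairFam.{u} (p := p)
  have hne : (pairFam.{u} p).Nonempty := ⟨_, Or.inl rfl⟩
  have hnotn : ∀ (S : Sylow p G), ∀ W ∈ pairFam.{u} p,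
      ¬ (inducedFunctor W (S : Subgroup G)).Normal := by
    intro S W hW hn
    refine hG (familyControlsTransferIn_iff.2 ⟨_, isSylowIn_top S,
      le_trans ?_ (le_sig (H := ⊤) (show inducedFunctor W ∈ indFam (pairFam p) G from ⟨W, hW, rfl⟩))⟩)
    rw [show nrm (inducedFunctor W (S : Subgroup G)) = ⊤ from normalizer_eq_top_iff.2 hn, inf_idem]
  have hSn : ∀ S : Sylow p G, ¬ (S : Subgroup G).Normal := fun S hn =>
    hnotn S _ (Or.inl rfl) (normalizer_eq_top_iff.1 (top_le_iff.1
      ((normalizer_eq_top_iff.2 hn).ge.trans (nrm_le_nrm_functor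
        (isConjugacyFunctor_inducedFunctor (h𝓦 _ (Or.inl rfl))) S.2))))
  have hstr := fun S : Sylow p G =>
    exists_bad_factor h𝓦 hne S hsub hquot hG _ _ rfl rfl
  have hmin : IsPMinimal p G := by
    intro S'
    obtain ⟨-, ⟨hMtop, hu⟩, -⟩ := hstr S'
    refine ⟨hSn S', _, ⟨⟨hMtop, fun b hb => ?_⟩, hu _ le_rfl fun e => hSn S' (e ▸ inferInstance)⟩,
      fun L hL => ?_⟩
    · by_contra hbt
      exact hb.not_ge (hu b ((hu _ le_rfl fun e => hSn S' (e ▸ inferInstance)).trans hb.le) hbt)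
    · by_contra hne'
      exact hMtop (hL.1.2 _ (lt_of_le_of_ne (hu L hL.2 hL.1.1) hne'))
  obtain ⟨S⟩ : Nonempty (Sylow p G) := inferInstance
  obtain ⟨hc, ⟨hMt, hu⟩, X, V, hXV, hXQ, hXD, hbad⟩ := hstr S
  set Q := pCore p G with hQ
  have hQS : Q ≤ (S : Subgroup G) := Thompson.pCore_le_sylow S
  -- the elements of order `p` of the centre
  have hz : ¬ (omegaOneCenter p (S : Subgroup G)).Normal := by
    intro hn
    haveI : (centralizer (omegaOneCenter p (S : Subgroup G) : Set G)).Normal := normal_centralizer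
    have htop := eq_top_of_uniq hMt hu (hSn S)
      (C := centralizer (omegaOneCenter p (S : Subgroup G) : Set G))
      (le_centralizer_iff.1 (LAE65.Block.omegaOneCenter_le_centralizer _))
    have hcen : omegaOneCenter p (S : Subgroup G) ≤ Subgroup.center G := fun x hx =>
      mem_center_iff.2 fun g => (mem_centralizer_iff.1 (htop.ge (mem_top g)) x hx).symm
    haveI : IsMulCommutative ↥(Q ⊓ centralizer (Q : Set G)) := Block82.comm_inf_centralizer G _
    haveI : (centralizer (Q : Set G)).Normal := normal_centralizer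
    have hZA : (S : Subgroup G) ⊓ centralizer (S : Set G) ≤ Q ⊓ centralizer (Q : Set G) :=
      fun x hx => ⟨hc (centralizer_le hQS hx.2), centralizer_le hQS hx.2⟩
    have h4 := center_sylow_central S _ (inf_le_left.trans hQS) hZA hcen
    refine hnotn S _ (Or.inl rfl) ⟨fun x hx g => ?_⟩
    have hx' : x ∈ (S : Subgroup G) ⊓ centralizer (S : Set G) :=
      inducedFunctor_centerFunctor (S : Subgroup G) ▸ hx
    rw [mem_center_iff.1 (h4 hx') g, mul_inv_cancel_right]
    exact hx
  set B := baumannSubgroupOf p (S : Subgroup G) with hB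
  have hKn : ¬ (mclImage B).Normal := fun hn => hnotn S _ (Or.inr rfl)
    (by rw [inducedFunctor_mclBaumann]; exact hn)
  -- the Thompson subgroup
  have hJ : ¬ thompsonSubgroupOf p (S : Subgroup G) ≤ Q := by
    intro hJQ
    haveI hQn : Q.Normal := Thompson.instPCoreNormal
    have hJn : (thompsonSubgroupOf p (S : Subgroup G)).Normal := by
      refine normalizer_eq_top_iff.1 (top_le_iff.1 ?_)
      rw [← Thompson.thompsonSubgroupOf_eq_of_le hQS hJQ]
      exact (normalizer_eq_top_iff.2 hQn).ge.trans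
        (Thompson.normalizer_le_normalizer_thompsonSubgroupOf _)
    haveI := hJn
    haveI : (centralizer (thompsonSubgroupOf p (S : Subgroup G) : Set G)).Normal :=
      normal_centralizer
    haveI : (centerThompsonOf p (S : Subgroup G)).Normal := by rw [centerThompsonOf]; infer_instance
    haveI : (omegaOne p (centerThompsonOf p (S : Subgroup G))).Normal := Thompson.omegaOne_normal _
    set C := centralizer (omegaOne p (centerThompsonOf p (S : Subgroup G)) : Set G) with hC
    haveI hCn : C.Normal := normal_centralizer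
    have hω : omegaOneCenter p (S : Subgroup G) ≤ omegaOne p (centerThompsonOf p (S : Subgroup G)) := by
      refine (Subgroup.closure_le _).2 fun x hx => ?_
      obtain ⟨A, hA⟩ := Thompson.exists_isMaxEAIn p (S : Subgroup G)
      have hxc : x ∈ centralizer (thompsonSubgroupOf p (S : Subgroup G) : Set G) :=
        centralizer_le ((LAE65.Block.thompson_le_baumann _).trans (LAE65.Block.baumann_le _)) hx.1.2
      refine Thompson.mem_omegaOne ⟨Thompson.le_thompsonSubgroupOf hA ?_, hxc⟩ hx.2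
      exact Thompson.mem_of_centralizes_max (Thompson.isMaxEAIn_sylow_iff S hA)
        (centralizer_le (Thompson.le_thompsonSubgroupOf hA) hxc) hx.2
    have hCS : C ⊔ (S : Subgroup G) ≠ ⊤ := fun e => hz ⟨fun x hx g => by
      have h1 : C ⊔ (S : Subgroup G) ≤ centralizer (omegaOneCenter p (S : Subgroup G) : Set G) :=
        sup_le (centralizer_le hω)
          (le_centralizer_iff.1 (LAE65.Block.omegaOneCenter_le_centralizer _))
      rw [← mem_centralizer_iff.1 (h1 (e.ge (mem_top g))) x hx, mul_inv_cancel_right]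
      exact hx⟩
    have hBC : IsSylowIn p ((S : Subgroup G) ⊓ C) C :=
      isSylowIn_inf_of_normal (isSylowIn_top S) le_top (by rw [nrm_eq_top])
    have hSB : (S : Subgroup G) ≤ nrm B :=
      le_normalizer.trans (LAE65.Block.le_normalizer_baumann _)
    have hBn : nrm B = ⊤ := by
      by_contra hne'
      refine hMt (top_le_iff.1 fun g _ => ?_)
      obtain ⟨c, hc', n, hn, rfl⟩ := exists_mul_of_frattini hBC (g := g)
        (by rw [nrm_eq_top]; exact mem_top g)
      exact mul_mem (hu _ le_sup_right hCS (mem_sup_left hc')) (hu _ hSB hne' hn)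
    refine hKn (normalizer_eq_top_iff.1 (top_le_iff.1 fun g _ => ?_))
    rw [mem_nrm_iff_cnj]
    show (mclImage B).map (MulAut.conj g).toMonoidHom = mclImage B
    rw [map_mclImage _ (MulAut.conj g).injective]
    exact congrArg mclImage (mem_nrm_iff_cnj.1 (hBn.ge (mem_top g)))
  obtain ⟨M₀, q, h⟩ := Block82.exists_ctx0 hmin hc S hJ hz
  have hcenM : Block82.cen p G ≤ nrm (sig (indFam (pairFam p) G) (S : Subgroup G) ⊤ ⊓ pCore p G) :=
    hu (Block82.cen p G ⊔ (S : Subgroup G)) le_sup_right (fun e => h.coatom.1 (top_le_iff.1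
      (e ▸ sup_le h.cen_le_M h.le_M))) |> le_sup_left.trans
  have hXc : ⁅X, Block82.cen p G⁆ ≤ V := hXD _ inferInstance hcenM
  by_cases hall : ∀ R : Subgroup ↥B, IsMinimalCentrallyLarge R → R.map B.subtype ≤ pCore p G
  · haveI := h.inf_core_normal
    refine hKn (LAE65.Push.normal_of_le_map fun g => ?_)
    rw [map_le_iff_le_comap, mclImage, map_le_iff_le_comap, minimalCentrallyLargeJoin, sSup_le_iff]
    intro R hR
    have hRH : (R.map B.subtype).map (MulAut.conj g).toMonoidHom ≤ B ⊓ pCore p G := by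
      rintro _ ⟨x, hx, rfl⟩
      exact (inferInstance : (B ⊓ pCore p G).Normal).conj_mem x
        ⟨map_subtype_le _ hx, hall R hR hx⟩ g
    have hmap := map_subgroupOf_eq_of_le (hRH.trans inf_le_left)
    have hR' : IsMinimalCentrallyLarge
        (((R.map B.subtype).map (MulAut.conj g).toMonoidHom).subgroupOf B) :=
      LAE65.Push.mcl_of_map_eq (f := (MulAut.conj g).toMonoidHom.comp B.subtype) (f' := B.subtype)
        ((MulAut.conj g).injective.comp B.subtype_injective) B.subtype_injective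
        (by rw [hmap, Subgroup.map_map]) hR
    rw [← map_le_iff_le_comap, ← map_le_iff_le_comap, ← hmap]
    exact Subgroup.map_mono (le_sSup hR')
  · push Not at hall
    obtain ⟨R₀, hR₀, hR⟩ := hall
    obtain ⟨u, huS, huQ, hu'⟩ := exists_quad_factor h (by omega) R₀ hR₀ hR hXV hXQ hXc
    exact hbad u huS huQ (by subst h3; exact hu')

/-- Both functors control transfer in every group. -/
theorem pair_controls (h3 : p = 3) (H : Type u) [Group H] [Finite H] :
    FamilyControlsTransferIn p (indFam (pairFam p) H) ⊤ :=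
  transfer_induction (G := H) isCharPFunctor_pairFam
    (fun _ _ _ _ _ hsub hquot => pair_controls_of_minimal h3 hsub hquot) H
    ⟨⊤, (⊤ : Subgroup H).subtype, fun x => ⟨⟨x, mem_top x⟩, rfl⟩⟩

/-- The transfer part of the normalizer of a central subgroup `Z` of a Sylow subgroup `S`. -/
theorem inf_commutator_nrm_le (S : Sylow p G) (Z : Subgroup G)
    (hSC : (S : Subgroup G) ≤ centralizer (Z : Set G)) :
    (S : Subgroup G) ⊓ ⁅nrm Z, nrm Z⁆ ≤
      ((S : Subgroup G) ⊓ ⁅centralizer (Z : Set G), centralizer (Z : Set G)⁆) ⊔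
        ((S : Subgroup G) ⊓ ⁅nrm (S : Subgroup G), nrm (S : Subgroup G)⁆) := by
  classical
  set C := centralizer (Z : Set G) with hC
  set N := nrm Z with hN
  set NS := nrm (S : Subgroup G) with hNS
  set D := ⁅C, C⁆ with hD
  set E := ⁅NS, NS⁆ with hE
  obtain ⟨a, r, hr, har⟩ :=
    Nat.exists_eq_pow_mul_and_not_dvd (Nat.card_pos (α := G)).ne' p hp.out.ne_one
  obtain ⟨k, hk1, hk0⟩ := Nat.chineseRemainder
    (Nat.Coprime.pow_left a (hp.out.coprime_iff_not_dvd.2 hr)) 1 0
  have hkp : ∀ g : G, (g ^ k) ^ p ^ a = 1 := by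
    intro g
    rw [← pow_mul]
    obtain ⟨d, hd⟩ := (Nat.modEq_zero_iff_dvd.1 hk0)
    rw [hd, mul_comm r d, mul_assoc, mul_comm r, ← har, mul_comm, pow_mul, pow_card_eq_one',
      one_pow]
  have hkS : ∀ x ∈ (S : Subgroup G), x ^ k = x := by
    intro x hx
    obtain ⟨j, hj⟩ := S.isPGroup' ⟨x, hx⟩
    have h1 : orderOf x ∣ p ^ a := by
      obtain ⟨i, -, hi⟩ := (Nat.dvd_prime_pow hp.out).1
        (orderOf_dvd_of_pow_eq_one (show x ^ p ^ j = 1 from congrArg Subtype.val hj))
      have h2 : p ^ i ∣ p ^ a * r := by rw [← har, ← hi]; exact orderOf_dvd_natCard x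
      rw [hi]
      exact ((hp.out.coprime_iff_not_dvd.2 hr).pow_left i).dvd_of_dvd_mul_right h2
    conv_rhs => rw [← pow_one x]
    exact pow_eq_pow_iff_modEq.2 (hk1.of_dvd h1)
  have hCN : C ≤ N := centralizer_le_normalizer _
  have hNC : N ≤ nrm C := LAE65.normalizer_le_normalizer_centralizer Z
  have hND : N ≤ nrm D := fun g hg => by
    rw [mem_nrm_iff_cnj]
    show (⁅C, C⁆).map (MulAut.conj g).toMonoidHom = ⁅C, C⁆
    rw [map_commutator]
    exact congrArg₂ (fun a b => ⁅a, b⁆) (mem_nrm_iff_cnj.1 (hNC hg)) (mem_nrm_iff_cnj.1 (hNC hg))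
  have hDC : D ≤ C := commutator_le_self C
  have hSC' : IsSylowIn p (S : Subgroup G) C := sylow_isSylowIn S hSC
  have hpowS : ∀ n ∈ NS, n ^ k ∈ (S : Subgroup G) := by
    intro n hn
    have hP : IsPGroup p ↥(zpowers (n ^ k)) := IsPGroup.of_card_dvd_pow (n := a)
      (by rw [Nat.card_zpowers]; exact orderOf_dvd_of_pow_eq_one (hkp n))
    have h1 := Subgroup.zpowers_le.2 (pow_mem hn k)
    have hp' := IsPGroup.to_sup_of_normal_right' hP S.isPGroup' h1
    exact (S.is_maximal' hp' le_sup_right).le (mem_sup_left (mem_zpowers _))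
  -- the subgroup on which the `p`-part lands in the right place
  set J := D ⊔ ((S : Subgroup G) ⊓ E) with hJ
  have hSEC : (S : Subgroup G) ⊓ E ≤ C := inf_le_left.trans hSC
  have hJC : J ≤ C := sup_le hDC hSEC
  have hCD : ∀ g ∈ C, ∀ g' ∈ C, ⁅g, g'⁆ ∈ D := fun g hg g' hg' => commutator_mem_commutator hg hg'
  haveI hDn : (D.subgroupOf C).Normal := normal_subgroupOf_of_le_normalizer (hCN.trans hND)
  letI : CommGroup (↥C ⧸ D.subgroupOf C) :=
    { (inferInstance : Group (↥C ⧸ D.subgroupOf C)) with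
      mul_comm := fun x y => by
        induction x using QuotientGroup.induction_on with
        | _ x =>
          induction y using QuotientGroup.induction_on with
          | _ y =>
            rw [← QuotientGroup.mk_mul, ← QuotientGroup.mk_mul, QuotientGroup.eq, mem_subgroupOf]
            have := hCD _ (inv_mem y.2) _ (inv_mem x.2)
            simpa [commutatorElement_def, mul_assoc] using this }
  let π := QuotientGroup.mk' (D.subgroupOf C)
  have hπJ : ∀ x : ↥C, π x ∈ (J.subgroupOf C).map π → (x : G) ∈ J := by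
    intro x hx
    obtain ⟨y, hy, e⟩ := hx
    have h1 : (y : G)⁻¹ * x ∈ D := (QuotientGroup.eq.1 e : y⁻¹ * x ∈ D.subgroupOf C)
    exact (J.mul_mem_cancel_left (J.inv_mem hy)).1 (mem_sup_left h1)
  let powk : ↥C →* ↥C ⧸ D.subgroupOf C := (powMonoidHom k).comp π
  let Good : Subgroup G := (((J.subgroupOf C).map π).comap powk).map C.subtype
  have hGood : ∀ {x : G}, x ∈ Good ↔ x ∈ C ∧ x ^ k ∈ J := by
    intro x
    constructor
    · rintro ⟨y, hy, rfl⟩
      exact ⟨y.2, hπJ (y ^ k) (by rw [map_pow]; exact hy)⟩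
    · rintro ⟨hx, hxk⟩
      refine ⟨⟨x, hx⟩, ?_, rfl⟩
      show π ⟨x, hx⟩ ^ k ∈ (J.subgroupOf C).map π
      rw [← map_pow]
      exact mem_map_of_mem π (show (⟨x, hx⟩ : ↥C) ^ k ∈ J.subgroupOf C from hxk)
  -- `[C, N(S)]` is good
  have hcn : ∀ c ∈ C, ∀ n ∈ NS, n ∈ N → ⁅c, n⁆ ∈ Good := by
    intro c hcC n hn hnN
    have hn' : n * c⁻¹ * n⁻¹ ∈ C := conj_mem_of_nrm (hNC hnN) (inv_mem hcC)
    have e0 : ⁅c, n⁆ = c * (n * c⁻¹ * n⁻¹) := by rw [commutatorElement_def]; group
    refine hGood.2 ⟨e0 ▸ mul_mem hcC hn', ?_⟩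
    have hP : IsPGroup p ↥(zpowers (c ^ k)) := IsPGroup.of_card_dvd_pow (n := a)
      (by rw [Nat.card_zpowers]; exact orderOf_dvd_of_pow_eq_one (hkp c))
    obtain ⟨γ, hγ, hle⟩ := hSC'.exists_cnj_le hP (zpowers_le.2 (pow_mem hcC k))
    set t := γ * c ^ k * γ⁻¹ with ht
    have htS : t ∈ (S : Subgroup G) := hle ⟨_, mem_zpowers _, rfl⟩
    have hd : t * (c ^ k)⁻¹ ∈ D := by
      have := hCD γ hγ (c ^ k) (pow_mem hcC k)
      rwa [commutatorElement_def] at this
    have htE : ⁅t, n⁆ ∈ (S : Subgroup G) ⊓ E :=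
      ⟨comm_mem_self htS hn, commutator_mem_commutator (le_normalizer htS) hn⟩
    have hnc : n * (c ^ k)⁻¹ * n⁻¹ ∈ C := conj_mem_of_nrm (hNC hnN) (inv_mem (pow_mem hcC k))
    have hnt : n * t⁻¹ * n⁻¹ ∈ C := conj_mem_of_nrm (hNC hnN) (inv_mem (hSC htS))
    have e1 : π ⟨t, hSC htS⟩ = π ⟨c ^ k, pow_mem hcC k⟩ :=
      (QuotientGroup.eq.2 (show (⟨c ^ k, pow_mem hcC k⟩ : ↥C)⁻¹ * ⟨t, hSC htS⟩ ∈ D.subgroupOf C from by
        show (c ^ k)⁻¹ * t ∈ D
        have h1 := conj_mem_of_nrm ((hCN.trans hND) (inv_mem (pow_mem hcC k))) hd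
        simpa [mul_assoc] using h1)).symm
    have e2 : π ⟨n * t⁻¹ * n⁻¹, hnt⟩ = π ⟨n * (c ^ k)⁻¹ * n⁻¹, hnc⟩ :=
      (QuotientGroup.eq.2 (show (⟨_, hnc⟩ : ↥C)⁻¹ * ⟨_, hnt⟩ ∈ D.subgroupOf C from by
        show (n * (c ^ k)⁻¹ * n⁻¹)⁻¹ * (n * t⁻¹ * n⁻¹) ∈ D
        have h1 := conj_mem_of_nrm (hND hnN) (inv_mem hd)
        simpa [mul_assoc] using h1)).symm
    refine hπJ (⟨⁅c, n⁆, e0 ▸ mul_mem hcC hn'⟩ ^ k) ?_
    have e3 : π (⟨⁅c, n⁆, e0 ▸ mul_mem hcC hn'⟩ ^ k) =
        π ⟨t * (n * t⁻¹ * n⁻¹), mul_mem (hSC htS) hnt⟩ := by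
      rw [show (⟨⁅c, n⁆, e0 ▸ mul_mem hcC hn'⟩ : ↥C) = ⟨c, hcC⟩ * ⟨_, hn'⟩ from Subtype.ext e0,
        show (⟨t * (n * t⁻¹ * n⁻¹), mul_mem (hSC htS) hnt⟩ : ↥C) = ⟨t, hSC htS⟩ * ⟨_, hnt⟩ from rfl,
        map_mul, e1, e2, map_pow, map_mul, mul_pow, ← map_pow, ← map_pow]
      refine congrArg (fun y => π (⟨c ^ k, pow_mem hcC k⟩ : ↥C) * π y) (Subtype.ext ?_)
      show (n * c⁻¹ * n⁻¹) ^ k = n * (c ^ k)⁻¹ * n⁻¹
      rw [conj_pow, inv_pow]
    rw [e3]
    refine mem_map_of_mem π (show t * (n * t⁻¹ * n⁻¹) ∈ J from mem_sup_right ?_)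
    rw [show t * (n * t⁻¹ * n⁻¹) = ⁅t, n⁆ by rw [commutatorElement_def]; group]
    exact htE
  have hDG : D ≤ Good := fun d hd => hGood.2 ⟨hDC hd, pow_mem (mem_sup_left hd) k⟩
  have hGC : Good ≤ C := fun x hx => (hGood.1 hx).1
  have hGn : ∀ c ∈ C, c ∈ nrm Good := fun c hcC => mem_nrm_of_forall fun x hx => by
    rw [show c * x * c⁻¹ = ⁅c, x⁆ * x by rw [commutatorElement_def]; group]
    exact mul_mem (hDG (hCD c hcC x (hGC hx))) hx
  have hGn' : ∀ n ∈ NS, n ∈ N → n ∈ nrm Good := fun n hn hnN => mem_nrm_of_forall fun x hx => by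
    rw [show n * x * n⁻¹ = ⁅x, n⁆⁻¹ * x by rw [commutatorElement_def]; group]
    exact mul_mem (inv_mem (hcn x (hGC hx) n hn hnN)) hx
  set E' := ⁅NS ⊓ N, NS ⊓ N⁆ with hE'
  have hE'le : E' ≤ NS ⊓ N := commutator_le_self _
  have hN' : ⁅N, N⁆ ≤ Good ⊔ E' := by
    rw [commutator_le]
    intro x hx y hy
    obtain ⟨c, hc, m, hm, rfl⟩ := exists_mul_of_frattini hSC' (hNC hx)
    obtain ⟨c', hc', m', hm', rfl⟩ := exists_mul_of_frattini hSC' (hNC hy)
    have hmN : m ∈ N := (N.mul_mem_cancel_left (hCN hc)).1 hx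
    have hm'N : m' ∈ N := (N.mul_mem_cancel_left (hCN hc')).1 hy
    have he : ⁅m, m'⁆ ∈ E' := commutator_mem_commutator ⟨hm, hmN⟩ ⟨hm', hm'N⟩
    set e := ⁅m, m'⁆ with hedef
    rw [show ⁅c * m, c' * m'⁆ = (c * (⁅c', m⁆⁻¹ * ⁅c', e⁆) * c⁻¹) * ⁅c, e⁆ * e *
        (⁅c, c'⁆ * (c' * ⁅c, m'⁆ * c'⁻¹)) by
      simp only [hedef, commutatorElement_def]; group]
    refine mul_mem (mul_mem (mem_sup_left (mul_mem ?_ ?_)) (mem_sup_right he)) (mem_sup_left ?_)
    · exact conj_mem_of_nrm (hGn c hc) (mul_mem (inv_mem (hcn c' hc' m hm hmN))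
        (hcn c' hc' e (hE'le he).1 (hE'le he).2))
    · exact hcn c hc e (hE'le he).1 (hE'le he).2
    · exact mul_mem (hDG (hCD c hc c' hc')) (conj_mem_of_nrm (hGn c' hc') (hcn c hc m' hm' hm'N))
  rintro x ⟨hxS, hxN⟩
  obtain ⟨e, he, g, hg, rfl⟩ := exists_mul_of_le_nrm (D := E') (W := Good)
    (fun n hn => hGn' n (hE'le hn).1 (hE'le hn).2) (sup_comm Good E' ▸ hN' hxN)
  have heC : e ∈ C := (C.mul_mem_cancel_right (hGC hg)).1 (hSC hxS)
  have heJ : e ^ k ∈ J := mem_sup_right ⟨hpowS e (hE'le he).1,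
    pow_mem (commutator_mono inf_le_left inf_le_left he) k⟩
  have hxJ : e * g ∈ J := by
    rw [← hkS _ hxS]
    exact (hGood.1 (mul_mem (hGood.2 ⟨heC, heJ⟩) hg)).2
  obtain ⟨s, hs, d, hd, e'⟩ := exists_mul_of_le_nrm (D := (S : Subgroup G) ⊓ E) (W := D)
    (hSEC.trans (hCN.trans hND)) ((show J ≤ ((S : Subgroup G) ⊓ E) ⊔ D from (sup_comm _ _).le) hxJ)
  rw [e']
  refine mul_mem (mem_sup_right hs) (mem_sup_left ⟨?_, hd⟩)
  exact ((S : Subgroup G).mul_mem_cancel_left hs.1).1 (e' ▸ hxS)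

/-- The result in the form of the statement. -/
theorem focal_two_normalizers (h3 : p = 3) {S : Type u} [Group S] [Finite S] [Nontrivial S]
    (hS : IsPGroup p S) :
    mclBaumann p S ≠ ⊥ ∧ (mclBaumann p S).Characteristic ∧
      ∀ (G : Type u) [Group G] [Finite G] (τ : S →* G), Function.Injective τ →
        (∃ P : Sylow p G, (P : Subgroup G) = τ.range) → ∀ g : G,
          g ∈ τ.range ⊓ commutator G ↔
            ∃ a ∈ τ.range ⊓ ⁅centralizer ((τ.range ⊓ centralizer (τ.range : Set G) : Subgroup G) : Set G),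
                centralizer ((τ.range ⊓ centralizer (τ.range : Set G) : Subgroup G) : Set G)⁆,
              ∃ b ∈ τ.range ⊓ ⁅normalizer (((mclBaumann p S).map τ : Subgroup G) : Set G),
                  normalizer (((mclBaumann p S).map τ : Subgroup G) : Set G)⁆, g = a * b := by
  have hW := isCharPFunctor_mclBaumann.{u} (p := p)
  refine ⟨hW.1 S hS ‹_›, characteristic_iff_map_eq.2 fun φ => hW.2 S S hS φ, ?_⟩
  intro G _ _ τ hτ ⟨P, hP⟩ g
  rw [← hP, _root_.commutator_def]
  set T := (P : Subgroup G) with hT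
  set Z := T ⊓ centralizer (T : Set G) with hZ
  have hKmap : (mclBaumann p S).map τ = inducedFunctor (mclBaumann p) T := by
    let e : S ≃* ↥T := (MonoidHom.ofInjective hτ).trans (MulEquiv.subgroupCongr hP.symm)
    rw [inducedFunctor, ← hW.2 S ↥T hS e, Subgroup.map_map]
    congr 1
  set K := (mclBaumann p S).map τ with hK
  have hTK : nrm T ≤ nrm K := by
    rw [hKmap]
    exact nrm_le_nrm_functor (isConjugacyFunctor_inducedFunctor hW) P.2
  have hTC : T ≤ centralizer (Z : Set G) := le_centralizer_iff.1 inf_le_right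
  refine ⟨fun hg => ?_, ?_⟩
  · have h1 := FamilyControlsTransferIn.le_sig (indFam_isConjugacyFunctor isCharPFunctor_pairFam)
      (pair_controls h3 G) (isSylowIn_top P) hg
    have h2 : sig (indFam (pairFam p) G) T ⊤ ≤
        (T ⊓ ⁅centralizer (Z : Set G), centralizer (Z : Set G)⁆) ⊔ (T ⊓ ⁅nrm K, nrm K⁆) := by
      refine iSup₂_le ?_
      rintro _ ⟨W, (rfl | rfl), rfl⟩
      · dsimp only
        rw [top_inf_eq, inducedFunctor_centerFunctor]
        exact (inf_commutator_nrm_le P _ hTC).trans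
          (sup_le_sup_left (inf_le_inf_left _ (commutator_mono hTK hTK)) _)
      · dsimp only
        rw [top_inf_eq, ← hKmap]
        exact le_sup_right
    have h3' := h2 h1
    rw [sup_comm] at h3'
    have hn : T ⊓ ⁅nrm K, nrm K⁆ ≤ nrm (T ⊓ ⁅centralizer (Z : Set G), centralizer (Z : Set G)⁆) := by
      intro x hx
      refine mem_nrm_of_forall fun y hy => ⟨T.mul_mem (T.mul_mem hx.1 hy.1) (T.inv_mem hx.1), ?_⟩
      have h5 : ⁅x, y⁆ ∈ ⁅centralizer (Z : Set G), centralizer (Z : Set G)⁆ :=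
        commutator_mem_commutator (hTC hx.1) (commutator_le_self _ hy.2)
      have := mul_mem h5 hy.2
      simpa [commutatorElement_def] using this
    obtain ⟨b, hb, a, ha, rfl⟩ := exists_mul_of_le_nrm hn h3'
    exact ⟨b * a * b⁻¹, conj_mem_of_nrm (hn hb) ha, b, hb, by group⟩
  · rintro ⟨a, ha, b, hb, rfl⟩
    exact ⟨T.mul_mem ha.1 hb.1,
      mul_mem (commutator_mono le_top le_top ha.2) (commutator_mono le_top le_top hb.2)⟩

end Cfsg.Agent.OddFocal.Three
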