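import Cfsg.Agent.OddFocal.Three.Count
import Cfsg.Agent.OddFocal.Three.Layers

/-!
An element outside `O_p` which is quadratic on a given chief factor below `O_p`, when a minimal
centrally large subgroup of the Baumann subgroup is not in `O_p`.
-/

set_option autoImplicit false
set_option linter.style.haveILetI false
set_option linter.unusedSectionVars false

open Cfsg Subgroup
open scoped commutatorElement MatrixGroups

namespace Cfsg.Agent.OddFocal.Three

open Cfsg.Agent.FFPM Cfsg.Agent.Block82 Cfsg.Agent.ConjFunctor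

variable {p : ℕ} {G : Type*} [Group G] [Finite G] [hp : Fact p.Prime]
  {T : Sylow p G} {M : Subgroup G} {q : ℕ} (h : Ctx0 T M q)
include h

local notation "𝐁" => baumannSubgroupOf p (T : Subgroup G)
local notation "𝐇" => baumannSubgroupOf p (T : Subgroup G) ⊓ pCore p G

/-- The elements centralizing `Y` modulo `Ω₁(Z(O_p))`. -/
theorem baumann_le_centMod : 𝐁 ≤ centMod h.Y (Om p G) := by
  have hJ : thompsonSubgroupOf p (T : Subgroup G) ≤ centMod h.Y (Om p G) := by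
    intro n hn
    refine ⟨by rw [nrm_eq_top]; exact mem_top n, fun y hy => ?_⟩
    obtain ⟨o, ho, z, hz, rfl⟩ := Subgroup.mem_sup_of_normal_left.1 hy
    rw [show ⁅o * z, n⁆ = o * ⁅n, z⁆⁻¹ * o⁻¹ * (o * (n * o⁻¹ * n⁻¹)) by
      simp only [commutatorElement_def]; group]
    exact mul_mem ((om_normal p G).conj_mem _
      (inv_mem (h.normalClosure_comm n (subset_normalClosure hn) z hz)) o)
      (mul_mem ho ((om_normal p G).conj_mem _ (inv_mem ho) n))
  intro b hb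
  have h1 : pr p b ∈ (thompsonSubgroupOf p (T : Subgroup G)).map (pr p) :=
    (h.map_J.trans h.map_B.symm).ge (mem_map_of_mem _ hb)
  obtain ⟨j, hj, e⟩ := h1
  have hk : j⁻¹ * b ∈ 𝐁 ⊓ cen p G := ⟨Subgroup.mul_mem _ (Subgroup.inv_mem _ (LAE65.Block.thompson_le_baumann _ hj)) hb,
    pr_eq_one.1 (by rw [map_mul, map_inv, e, inv_mul_cancel])⟩
  rw [inf_cen_eq h le_rfl] at hk
  have hk2 := hk.2
  rw [h.inf_core] at hk2
  have hc : j⁻¹ * b ∈ centMod h.Y (Om p G) := ⟨by rw [nrm_eq_top]; exact mem_top _, fun y hy => by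
    rw [commutatorElement_eq_one_iff_mul_comm.2 (mem_centralizer_iff.1 hk2.2 y hy)]
    exact one_mem _⟩
  simpa using mul_mem (hJ hj) hc

/-- The Baumann subgroup is quadratic on `Ω₁(Z(O_p))`. -/
theorem baumann_quad {s s' v : G} (hs : s ∈ 𝐁) (hs' : s' ∈ 𝐁) (hv : v ∈ Om p G) :
    s' * ⁅s, v⁆ * s'⁻¹ = ⁅s, v⁆ := by
  have hs1 : pr p s ∈ roots (Mod p G) q (Tbar T) := h.map_B.le (mem_map_of_mem _ hs)
  have hs2 : pr p s' ∈ roots (Mod p G) q (Tbar T) := h.map_B.le (mem_map_of_mem _ hs')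
  have h1 := congrArg (cv (p := p) (G := G)) (h.quad_roots _ hs1 (vc hv) _ hs2)
  rw [cv_smul, sub_eq_add_neg, cv_add, cv_smul, cv_neg, cv_vc] at h1
  rw [commutatorElement_def]
  exact h1

theorem chief_quad_above {X W : Subgroup G} (hXW : IsChiefFactor X W) (hXQ : X ≤ pCore p G)
    (hinf : X ⊓ 𝐇 ≤ W) {u : G} (hu : u ∈ 𝐁) : iterCommutator X (zpowers u) 2 ≤ W := by
  haveI := hXW.2.1
  haveI := hXW.2.2.1
  haveI := h.Y_normal
  haveI : (centMod h.Y (Om p G)).Normal := centMod_normal _ _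
  set C₁ := centMod h.Y (Om p G) ⊓ pCore p G with hC₁
  have hBC := baumann_le_centMod h
  by_cases h1 : X ⊓ C₁ ≤ W
  · refine (iterCommutator_antitone (by rw [nrm_eq_top]; exact le_top) one_le_two).trans ?_
    show ⁅X, zpowers u⁆ ≤ W
    refine le_trans ?_ h1
    rw [hC₁]
    refine le_inf (commutator_le_left _ _) (le_inf ?_ ((commutator_le_left _ _).trans hXQ))
    exact (commutator_mono le_rfl (zpowers_le.2 (hBC hu))).trans (commutator_le_right _ _)
  refine (iterCommutator_mono le_rfl (zpowers_le.2 hu) 2).trans ?_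
  refine iterCommutator_le_of_cover (le_cover hXW h1) hinf ?_
  -- `C₁` acts on `Y` by translations into `Ω₁(Z(O_p))`
  have hγ : ∀ x ∈ C₁, ∀ y ∈ h.Y, ⁅x, y⁆ ∈ Om p G := fun x hx y hy => by
    rw [← commutatorElement_inv]; exact inv_mem (hx.1.2 y hy)
  have hQV : ∀ x ∈ C₁, ∀ v ∈ Om p G, x * v = v * x := fun x hx v hv =>
    (mem_centralizer_iff.1 (pCore_le_cen hx.2) v hv).symm
  have hVcm : ∀ v ∈ Om p G, ∀ w ∈ Om p G, v * w = w * v := fun v hv w hw =>
    Thompson.elemAb_comm (om_elemAb p G).1 hv hw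
  have hconj : ∀ x ∈ C₁, ∀ s ∈ 𝐁, ∀ y ∈ h.Y, ⁅s * x * s⁻¹, y⁆ = s * ⁅x, y⁆ * s⁻¹ := by
    intro x hx s hs y hy
    set v := ⁅y, s⁆ with hv
    have hvV : v ∈ Om p G := (hBC hs).2 y hy
    have hx' : s * x * s⁻¹ ∈ C₁ := (inferInstance : C₁.Normal).conj_mem x hx s
    have e1 := hQV _ hx' v hvV
    have e2 : s * ⁅x, y⁆ * s⁻¹ = ⁅s * x * s⁻¹, v⁻¹ * y⁆ := by
      rw [hv]; simp only [commutatorElement_def]; group
    rw [e2, show ⁅s * x * s⁻¹, v⁻¹ * y⁆ = ⁅s * x * s⁻¹, v⁻¹⁆ * (v⁻¹ * ⁅s * x * s⁻¹, y⁆ * v⁻¹⁻¹) by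
      simp only [commutatorElement_def]; group,
      commutatorElement_eq_one_iff_mul_comm.2 (hQV _ hx' v⁻¹ (inv_mem hvV)), one_mul,
      hVcm _ (inv_mem hvV) _ (hγ _ hx' y hy), mul_inv_cancel_right]
  have hmul : ∀ x ∈ C₁, ∀ z ∈ C₁, ∀ y ∈ h.Y, ⁅x * z, y⁆ = ⁅x, y⁆ * ⁅z, y⁆ := by
    intro x hx z hz y hy
    rw [show ⁅x * z, y⁆ = x * ⁅z, y⁆ * x⁻¹ * ⁅x, y⁆ by simp only [commutatorElement_def]; group,
      hQV x hx _ (hγ z hz y hy), mul_inv_cancel_right, hVcm _ (hγ z hz y hy) _ (hγ x hx y hy)]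
  have hcomm : ∀ x ∈ C₁, ∀ s ∈ 𝐁, ∀ y ∈ h.Y, ⁅⁅x, s⁆, y⁆ = ⁅s, ⁅x, y⁆⁆⁻¹ := by
    intro x hx s hs y hy
    have hxi : s * x⁻¹ * s⁻¹ ∈ C₁ := (inferInstance : C₁.Normal).conj_mem _ (inv_mem hx) s
    rw [show ⁅x, s⁆ = x * (s * x⁻¹ * s⁻¹) by rw [commutatorElement_def]; group,
      hmul x hx _ hxi y hy, hconj _ (inv_mem hx) s hs y hy,
      show ⁅x⁻¹, y⁆ = x⁻¹ * ⁅x, y⁆⁻¹ * x⁻¹⁻¹ by simp only [commutatorElement_def]; group,
      hQV _ (inv_mem hx) _ (inv_mem (hγ x hx y hy)), mul_inv_cancel_right,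
      commutatorElement_def s]
    group
  let M₁ : Subgroup G :=
    { carrier := {x | x ∈ C₁ ∧ ∀ y ∈ h.Y, ∀ s ∈ 𝐁, s * ⁅x, y⁆ * s⁻¹ = ⁅x, y⁆}
      one_mem' := ⟨one_mem _, fun y _ s _ => by simp⟩
      mul_mem' := fun {a b} ha hb => ⟨mul_mem ha.1 hb.1, fun y hy s hs => by
        rw [hmul a ha.1 b hb.1 y hy, ← conj_mul, ha.2 y hy s hs, hb.2 y hy s hs]⟩
      inv_mem' := fun {a} ha => ⟨inv_mem ha.1, fun y hy s hs => by
        have e : ⁅a⁻¹, y⁆ = ⁅a, y⁆⁻¹ := by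
          rw [show ⁅a⁻¹, y⁆ = a⁻¹ * ⁅a, y⁆⁻¹ * a⁻¹⁻¹ by simp only [commutatorElement_def]; group,
            hQV _ (inv_mem ha.1) _ (inv_mem (hγ a ha.1 y hy)), mul_inv_cancel_right]
        rw [e, ← conj_inv, ha.2 y hy s hs]⟩ }
  show ⁅⁅C₁, 𝐁⁆, 𝐁⁆ ≤ 𝐇
  refine (commutator_mono (?_ : ⁅C₁, 𝐁⁆ ≤ M₁) le_rfl).trans ?_ <;> rw [commutator_le]
  · intro x hx s hs
    have hxs : ⁅x, s⁆ ∈ C₁ := commutator_le_left C₁ 𝐁 (commutator_mem_commutator hx hs)
    refine ⟨hxs, fun y hy s' hs' => ?_⟩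
    rw [hcomm x hx s hs y hy, ← conj_inv, baumann_quad h hs hs' (hγ x hx y hy)]
  · intro x hx s hs
    have hxs : ⁅x, s⁆ ∈ C₁ := commutator_le_left C₁ 𝐁 (commutator_mem_commutator hx.1 hs)
    rw [h.inf_core]
    refine ⟨hxs.2, mem_centralizer_iff.2 fun y hy =>
      (commutatorElement_eq_one_iff_mul_comm.1 ?_).symm⟩
    rw [hcomm x hx.1 s hs y hy, inv_eq_one, commutatorElement_def, hx.2 y hy s hs, mul_inv_cancel]

/-- If a minimal centrally large subgroup of the Baumann subgroup is not in `O_p`, then some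
element outside `O_p` is quadratic on the given chief factor. -/
theorem exists_quad_factor (h2 : p ≠ 2) : ∀ (R₀ : Subgroup ↥(𝐁)), IsMinimalCentrallyLarge R₀ →
    ¬ R₀.map (𝐁).subtype ≤ pCore p G → ∀ {X W : Subgroup G}, IsChiefFactor X W → X ≤ pCore p G →
    ⁅X, cen p G⁆ ≤ W →
    ∃ u ∈ (T : Subgroup G), u ∉ pCore p G ∧ iterCommutator X (zpowers u) 2 ≤ W := by
  intro R₀ hR₀ hR X W hXW hXQ hXc
  haveI := hXW.2.1
  haveI := hXW.2.2.1
  obtain ⟨U, A, F₁, F₀, hU, hAB, hAmap, hF01, hF₁H, hVF₀, hfix, hlarge, hcent⟩ :=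
    exists_data h R₀ hR₀ hR
  set H := baumannSubgroupOf p (T : Subgroup G) ⊓ pCore p G with hH
  set V := Om p G with hV
  haveI hHn : H.Normal := h.inf_core_normal
  have hVH : V ≤ H := om_le_H h
  have hHV : H ≤ centralizer (V : Set G) := H_le_cent h
  obtain ⟨a₀, ha₀, ha₀1⟩ := hU.1.exists_ne_one
  obtain ⟨u, huA, hu⟩ := hAmap.ge ha₀
  have huc : u ∉ cen p G := fun hc => ha₀1 (hu ▸ pr_eq_one.2 hc)
  have huB : u ∈ baumannSubgroupOf p (T : Subgroup G) := hAB huA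
  refine ⟨u, LAE65.Block.baumann_le _ huB, fun hq => huc (pCore_le_cen hq), ?_⟩
  by_cases hinf : X ⊓ H ≤ W
  · exact chief_quad_above h hXW hXQ hinf huB
  have hcov : X ≤ (X ⊓ H) ⊔ W := le_cover hXW hinf
  -- the pair
  obtain ⟨Y', hY', hne⟩ := h.conf.exists_other hU
  obtain ⟨z, hz⟩ := h.conf.exists_cj_mem hU.1 hY'.1
  obtain ⟨g, hg⟩ := pr_surjective (p := p) z
  set A' := A.map (MulAut.conj g).toMonoidHom with hA'
  have hA'map : A'.map (pr p) = Y' := by
    rw [← hz, hA', FFSL2.cj, ← hAmap, Subgroup.map_map, Subgroup.map_map]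
    congr 1
    ext a
    show pr p (g * a * g⁻¹) = z * pr p a * z⁻¹
    rw [map_mul, map_mul, map_inv, hg]
  set L := A ⊔ A' with hL
  have hAL : A ≤ L := le_sup_left
  have hLmap : L.map (pr p) = sSup (line (Mod p G) q (Tbar T) 1 U) := by
    rw [hL, Subgroup.map_sup, hAmap, hA'map,
      h.conf.sSup_line hU (h.conf.self_mem_line hU) hY' hne]
  -- the action through `SL₂`
  obtain ⟨F, _, _, e, ψ, hFq, -, -, -⟩ := h.conf.exists_natural hU
  let ρ : ↥L →* SL(2, F) :=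
    (e.toMonoidHom.comp (MulEquiv.subgroupCongr hLmap).toMonoidHom).comp ((pr p).subgroupMap L)
  have hρ : ∀ x : ↥L,
      ((e.symm (ρ x) : ↥(sSup (line (Mod p G) q (Tbar T) 1 U))) : Bar p G) = pr p (x : G) := fun x => by
    show ((e.symm (e _) : ↥(sSup (line (Mod p G) q (Tbar T) 1 U))) : Bar p G) = _
    rw [e.symm_apply_apply]; rfl
  have hρcard : ∀ {B : Subgroup G}, B ≤ L →
      Nat.card ↥((B.subgroupOf L).map ρ) = Nat.card ↥(B.map (pr p)) := by
    intro B hB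
    let χ : SL(2, F) →* Bar p G :=
      (sSup (line (Mod p G) q (Tbar T) 1 U)).subtype.comp e.symm.toMonoidHom
    have hχ : Function.Injective χ := fun a b hab => e.symm.injective (Subtype.ext hab)
    rw [← card_map_of_injective hχ, Subgroup.map_map,
      show χ.comp ρ = (pr p).comp L.subtype from MonoidHom.ext hρ, ← Subgroup.map_map,
      map_subgroupOf_eq_of_le hB]
  have hUp : IsPGroup p ↥U := (T.isPGroup'.map (pr p)).to_le (by
    have := hU.2; rwa [FFSL2.cj_one, Tbar_eq] at this)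
  obtain ⟨n, hn⟩ := IsPGroup.iff_card.1 hUp
  have hqn : q = p ^ n := hU.1.card.symm.trans hn
  have hq3 : 3 ≤ q := by
    have h2le := hU.1.two_le
    rcases Nat.eq_zero_or_pos n with rfl | hn0
    · simp at hqn; omega
    · have := hp.out.two_le
      have hpn : p ≤ p ^ n := Nat.le_self_pow hn0.ne' p
      omega
  -- the factorised subgroup
  set F₂ := F₁.map (MulAut.conj g).toMonoidHom with hF₂
  set E₀ := F₀.map (MulAut.conj g).toMonoidHom with hE₀
  have hF₀H : F₀ ≤ H := hF01.trans hF₁H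
  have hnormmap : ∀ {P N : Subgroup G}, N.Normal → P ≤ N →
      P.map (MulAut.conj g).toMonoidHom ≤ N := by
    rintro P N hN hPN _ ⟨x, hx, rfl⟩
    exact hN.conj_mem x (hPN hx) g
  have hF₂H : F₂ ≤ H := hnormmap hHn hF₁H
  have hE₀H : E₀ ≤ H := hnormmap hHn hF₀H
  let cg : ↥H ≃* ↥H := MulAut.conjNormal g
  have hcg : ∀ {P : Subgroup G}, P ≤ H → (P.map (MulAut.conj g).toMonoidHom).subgroupOf H =
      (P.subgroupOf H).map cg.toMonoidHom := by
    intro P hP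
    apply map_injective H.subtype_injective
    rw [map_subgroupOf_eq_of_le (hnormmap hHn hP), Subgroup.map_map]
    conv_lhs => rw [← map_subgroupOf_eq_of_le hP, Subgroup.map_map]
    rfl
  have hlarge₂ : IsCentralizerLarge (F₂.subgroupOf H) ∧
      E₀.subgroupOf H = centralizer ((F₂.subgroupOf H : Subgroup ↥H) : Set ↥H) := by
    have e1 : E₀.subgroupOf H = centralizer ((F₂.subgroupOf H : Subgroup ↥H) : Set ↥H) := by
      rw [hcg hF₁H, hcg hF₀H, hcent]
      have h1 := OddFocal.map_inf_centralizer' cg.toMonoidHom cg.injective ⊤ (F₁.subgroupOf H)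
      rwa [top_inf_eq, map_top_of_surjective cg.toMonoidHom cg.surjective, top_inf_eq] at h1
    refine ⟨?_, e1⟩
    show Nat.card ↥(F₂.subgroupOf H) * _ = _
    rw [← e1, hcg hF₁H, hcg hF₀H, card_map_of_injective (f := cg.toMonoidHom) cg.injective,
      card_map_of_injective (f := cg.toMonoidHom) cg.injective, hcent]
    exact hlarge
  obtain ⟨hmulset, -, -, -, -⟩ := LAE65.large_pair hlarge hlarge₂.1
  obtain ⟨hc₁, hcc₁⟩ := LAE65.large_centralizer hlarge
  obtain ⟨hc₂, hcc₂⟩ := LAE65.large_centralizer hlarge₂.1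
  rw [← hcent] at hc₁ hcc₁
  rw [← hlarge₂.2] at hc₂ hcc₂
  obtain ⟨-, -, -, -, hcI⟩ := LAE65.large_pair hc₁ hc₂
  rw [← hcc₁, ← hcc₂] at hcI
  set I := F₀ ⊓ E₀ with hI
  set Xp := F₁ ⊔ F₂ with hXp
  have hIH : I ≤ H := inf_le_left.trans hF₀H
  have hsupH : (Xp.subgroupOf H) = F₁.subgroupOf H ⊔ F₂.subgroupOf H := subgroupOf_sup hF₁H hF₂H
  have hXpI : H ⊓ centralizer (I : Set G) = Xp := by
    have e1 : (centralizer ((I.subgroupOf H : Subgroup ↥H) : Set ↥H)).map H.subtype =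
        (Xp.subgroupOf H).map H.subtype := by
      rw [hsupH, ← hcI]; rfl
    rwa [map_centralizer_subgroupOf, map_subgroupOf_eq_of_le hIH,
      map_subgroupOf_eq_of_le (sup_le hF₁H hF₂H)] at e1
  have hfac : ∀ x ∈ Xp, ∃ f ∈ F₁, ∃ f' ∈ F₂, x = f * f' := by
    intro x hx
    have hxH : x ∈ H := sup_le hF₁H hF₂H hx
    have h1 : (⟨x, hxH⟩ : ↥H) ∈ (F₁.subgroupOf H ⊔ F₂.subgroupOf H : Subgroup ↥H) := hsupH ▸ hx
    rw [← SetLike.mem_coe, hmulset] at h1
    obtain ⟨a, ha, b, hb, hab⟩ := Set.mem_mul.1 h1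
    exact ⟨a, ha, b, hb, (congrArg Subtype.val hab).symm⟩
  have hfix₂ : ∀ a ∈ A', ∀ f ∈ F₂, ⁅a, f⁆ ∈ V := by
    rintro _ ⟨a, ha, rfl⟩ _ ⟨f, hf, rfl⟩
    rw [← map_commutatorElement]
    exact (om_normal p G).conj_mem _ (hfix a ha f hf) g
  have hVn : ∀ P : Subgroup G, P ≤ nrm V := fun P => by rw [nrm_eq_top]; exact le_top
  have hLI : ∀ l ∈ L, ∀ x ∈ I, ⁅l, x⁆ ∈ V := by
    have hle : L ≤ centMod I V := sup_le
      (fun a ha => ⟨hVn ⊤ (mem_top a), fun x hx => by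
        rw [← commutatorElement_inv]; exact inv_mem (hfix a ha x (hF01 hx.1))⟩)
      (fun a ha => ⟨hVn ⊤ (mem_top a), fun x hx => by
        rw [← commutatorElement_inv]
        exact inv_mem (hfix₂ a ha x (Subgroup.map_mono hF01 hx.2))⟩)
    exact fun l hl x hx => by rw [← commutatorElement_inv]; exact inv_mem ((hle hl).2 x hx)
  haveI := h.Y_normal
  haveI : (centMod h.Y V).Normal := centMod_normal _ _
  have hLC : L ≤ centMod h.Y V := sup_le (hAB.trans (baumann_le_centMod h))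
    (hnormmap inferInstance (hAB.trans (baumann_le_centMod h)))
  have hXpH : Xp ≤ H := sup_le hF₁H hF₂H
  have hLX : L ≤ nrm Xp := fun l hl => mem_nrm_of_forall fun x hx => by
    rw [← hXpI] at hx ⊢
    refine ⟨hHn.conj_mem x hx.1 l, mem_centralizer_iff.2 fun y hy => ?_⟩
    have hy' : l⁻¹ * y * l ∈ centralizer ({x} : Set G) := by
      rw [show l⁻¹ * y * l = ⁅l⁻¹, y⁆ * y by rw [commutatorElement_def]; group]
      refine mul_mem (mem_centralizer_singleton_iff.2 ?_) (mem_centralizer_singleton_iff.2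
        (mem_centralizer_iff.1 hx.2 y hy))
      exact mem_centralizer_iff.1 (hHV hx.1) _ (hLI _ (inv_mem hl) y hy)
    have h1 := congrArg (fun t => l * t * l⁻¹) (mem_centralizer_singleton_iff.1 hy')
    simpa [mul_assoc] using h1
  have hTp : ∀ {P : Subgroup G}, P ≤ pCore p G → IsPGroup p ↥P := fun hP =>
    Thompson.isPGroup_pCore.to_le hP
  have hVq : ∀ a ∈ A, ∀ v ∈ V, ⁅⁅v, a⁆, a⁆ = 1 := by
    intro a ha v hv
    rw [commutatorElement_eq_one_iff_mul_comm]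
    have h1 := baumann_quad h (hAB ha) (hAB ha) hv
    rw [← commutatorElement_inv v a] at h1
    have h2 := mul_inv_eq_iff_eq_mul.1 h1
    exact ((Commute.inv_left_iff (a := ⁅v, a⁆) (b := a)).1 h2.symm).eq
  have hrelV : Rel p L (cen p G) A V ⊥ := fun P W hs hc _ => hs.quad_restrict hAL hc
    fun a ha x hx => by rw [hVq a ha x hx.2]; exact one_mem _
  have hLn : ∀ (N : Subgroup G) [N.Normal], L ≤ nrm (L ⊓ N) := fun N _ =>
    (le_inf le_normalizer (by rw [nrm_eq_top]; exact le_top)).trans (nrm_inf_le _ _)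
  -- translations into `V`
  have hfamily : ∀ {D D' : Subgroup G} (s : Set G), L ≤ nrm D → D ≤ cen p G →
      (∀ x ∈ s, ∀ l ∈ L, ⁅l, x⁆ ∈ V) → (∀ x ∈ s, ∀ d ∈ D, ⁅d, x⁆ ∈ V) →
      (∀ d ∈ D, (∀ x ∈ s, ⁅d, x⁆ = 1) → d ∈ D') → Rel p L (cen p G) A D D' := by
    intro D D' s hD hDc hs hmem hker
    have hDV : ∀ d ∈ D, ∀ v ∈ V, d * v = v * d := fun d hd v hv =>
      (mem_centralizer_iff.1 (hDc hd) v hv).symm
    refine Rel.of_family (E' := (⊥ : Subgroup G)) hrelV hAL hD bot_le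
      (hTp (LAE65.Block.omegaOneCenter_le _)) (fun x d => ⁅d, x⁆) s hmem ?_ ?_
      fun d hd hd' => hker d hd fun x hx => mem_bot.1 (hd' x hx)
    · intro x hx d hd d' hd'
      rw [mem_bot, show ⁅d * d', x⁆ = d * ⁅d', x⁆ * d⁻¹ * ⁅d, x⁆ by
        simp only [commutatorElement_def]; group, hDV d hd _ (hmem x hx d' hd'),
        mul_inv_cancel_right, Thompson.elemAb_comm (om_elemAb p G).1 (hmem x hx d' hd')
        (hmem x hx d hd), inv_mul_cancel]
    · intro x hx l hl d hd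
      set v := ⁅l, x⁆
      have hd' : l * d * l⁻¹ ∈ D := conj_mem_of_nrm (hD hl) hd
      have e3 : l * ⁅d, x⁆ * l⁻¹ = ⁅l * d * l⁻¹, v * x⁆ := by
        simp only [v, commutatorElement_def]; group
      rw [mem_bot, e3, show ⁅l * d * l⁻¹, v * x⁆ =
        ⁅l * d * l⁻¹, v⁆ * (v * ⁅l * d * l⁻¹, x⁆ * v⁻¹) by simp only [commutatorElement_def]; group,
        commutatorElement_eq_one_iff_mul_comm.2 (hDV _ hd' v (hs x hx l hl)), one_mul,
        Thompson.elemAb_comm (om_elemAb p G).1 (hs x hx l hl) (hmem x hx _ hd'),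
        mul_inv_cancel_right, inv_mul_cancel]
  have hrel : Rel p L (cen p G) A (L ⊓ pCore p G) (L ⊓ Xp) := by
    refine Rel.trans (D' := L ⊓ H) ?_ ?_ (hLn H)
    · refine hfamily (h.Y : Set G) (hLn _) (inf_le_right.trans pCore_le_cen) (fun y hy l hl => ?_)
        (fun y hy d hd => ?_) fun d hd hd' => ⟨hd.1, ?_⟩
      · rw [← commutatorElement_inv]; exact inv_mem ((hLC hl).2 y hy)
      · rw [← commutatorElement_inv]; exact inv_mem ((hLC hd.1).2 y hy)
      · rw [hH, h.inf_core]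
        exact ⟨hd.2, mem_centralizer_iff.2 fun y hy =>
          (commutatorElement_eq_one_iff_mul_comm.1 (hd' y hy)).symm⟩
    · refine hfamily (I : Set G) (hLn _) (inf_le_right.trans (inf_le_right.trans pCore_le_cen))
        (fun x hx l hl => hLI l hl x hx) (fun x hx d hd => hLI d hd.1 x hx)
        fun d hd hd' => ⟨hd.1, hXpI.le ⟨hd.2, mem_centralizer_iff.2 fun x hx =>
          (commutatorElement_eq_one_iff_mul_comm.1 (hd' x hx)).symm⟩⟩
  have hcop : ∀ k ∈ L ⊓ cen p G, ∃ m : ℕ, ¬ p ∣ m ∧ k ^ m ∈ pCore p G := by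
    intro k hk
    obtain ⟨a, m, hm, ham⟩ :=
      Nat.exists_eq_pow_mul_and_not_dvd (orderOf_pos k).ne' p hp.out.ne_one
    refine ⟨m, hm, h.pgroup_le_cen (IsPGroup.of_card_dvd_pow (n := a) ?_)
      (zpowers_le.2 (pow_mem hk.2 m)) (mem_zpowers _)⟩
    rw [Nat.card_zpowers]
    refine orderOf_dvd_of_pow_eq_one ?_
    rw [← pow_mul, mul_comm, ← ham, pow_orderOf_eq_one]
  have hFac : Fac p F n L (cen p G) (pCore p G) Xp V A A' F₁ F₂ ρ :=
    { card_field := hFq.trans hqn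
      gen := rfl
      surj := e.surjective.comp ((MulEquiv.subgroupCongr hLmap).surjective.comp
        ((pr p).subgroupMap_surjective L))
      ker := fun x => by
        rw [← pr_eq_one (g := (x : G)), ← hρ x]
        simp
      cardA := by rw [hρcard le_sup_left, hAmap, hU.1.card, hFq]
      cardA' := by rw [hρcard le_sup_right, hA'map, hY'.1.card, hFq]
      normQ := by rw [nrm_eq_top]; exact le_top
      leC := pCore_le_cen
      pQ := Thompson.isPGroup_pCore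
      cop := hcop
      rel := hrel
      normX := hLX
      pX := hTp (hXpH.trans inf_le_right)
      fac := hfac
      le₁ := le_sup_left
      le₂ := le_sup_right
      fix₁ := hfix
      fix₂ := hfix₂ }
  have hrelX := hFac.rel_bot (hVn L) ((hVF₀.trans hF01).trans le_sup_left)
    (hXpH.trans hHV) hVq
  have hrelH : Rel p L (cen p G) A H ⊥ :=
    rel_group (hTp inf_le_right) hAL hLX hrelX hIH hHV hLI hXpI.le
  -- the chief factor
  obtain ⟨hNn, -⟩ := h.conf.lineSup_spec (1 : Bar p G)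
  haveI := hNn
  set N := (lineSup (Mod p G) q (Tbar T) 1).comap (pr p) with hN
  haveI : N.Normal := hNn.comap _
  set L' := (sSup (line (Mod p G) q (Tbar T) 1 U)).comap (pr p) with hL'
  have hL'N : L' ≤ N := comap_mono (sSup_le fun Z hZ => le_sSup ⟨U, hU, hZ⟩)
  have hNL' : N ≤ nrm L' := by
    refine (comap_mono ?_).trans (le_normalizer_comap _)
    refine sSup_le ?_
    rintro Z ⟨C, hC, hZ⟩
    by_cases hCU : C = U
    · exact (le_sSup (hCU ▸ hZ)).trans le_normalizer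
    · refine (le_sSup hZ).trans (le_trans ?_ (centralizer_le_normalizer _))
      have hl : ¬ Lk (Mod p G) q (Tbar T) 1 C U := fun hl => hCU (h.conf.eq_of_lk hq3 hC hU hl)
      exact fun x hx => mem_centralizer_iff.2 fun y hy => (h.conf.com_of_not_lk hC hl x hx y hy).symm
  have hL'eq : L' = L ⊔ cen p G := by
    rw [hL', ← hLmap, Subgroup.comap_map_eq, QuotientGroup.ker_mk']
  set 𝒵 : Set (Subgroup G) := {Z | Z ≤ X ∧ u ∈ nrm Z ∧ ∀ x ∈ Z, ⁅⁅x, u⁆, u⁆ ∈ W}
  have hgood : ∀ Z : Subgroup G, W < Z → Z ≤ X → L' ≤ nrm Z →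
      (∀ Y : Subgroup G, W ≤ Y → Y ≤ Z → L' ≤ nrm Y → Y = W ∨ Y = Z) → Z ∈ 𝒵 := by
    intro Z hlt hZX hZn hmin
    have hcenZ : ∀ Y : Subgroup G, W ≤ Y → Y ≤ X → cen p G ≤ nrm Y := fun Y hWY hYX k hk =>
      mem_nrm_of_forall fun y hy => by
        rw [show k * y * k⁻¹ = ⁅y, k⁆⁻¹ * y by rw [commutatorElement_def]; group]
        exact Y.mul_mem (Y.inv_mem (hWY (hXc (commutator_mem_commutator (hYX hy) hk)))) hy
    have hsec : Sec p L (cen p G) Z W :=
      { lt := hlt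
        normP := (hL'eq ▸ le_sup_left : L ≤ L').trans hZn
        normW := by rw [nrm_eq_top]; exact le_top
        comm := (commutator_mono hZX ((hZX.trans hXQ).trans pCore_le_cen)).trans hXc
        isP := hTp (hZX.trans hXQ)
        min := fun Y hWY hYZ hY => hmin Y hWY hYZ
          (hL'eq ▸ sup_le hY (hcenZ Y hWY (hYZ.trans hZX)))
        triv := (commutator_mono hZX inf_le_right).trans hXc }
    have hcZ : Z ≤ (Z ⊓ H) ⊔ W := by
      intro x hx
      obtain ⟨d, hd, w, hw, rfl⟩ := Subgroup.mem_sup_of_normal_right.1 (hcov (hZX hx))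
      exact mul_mem (mem_sup_left ⟨(Z.mul_mem_cancel_right (hlt.le hw)).1 hx, hd.2⟩)
        (mem_sup_right hw)
    exact ⟨hZX, hsec.normP (hAL huA), hrelH Z W hsec hcZ (inf_le_right.trans bot_le) u huA⟩
  have hXsup : X ≤ sSup 𝒵 := by
    refine (le_sSup_minimal (N := ⊤) (L := N) (by rw [nrm_eq_top]) hXW.1
      (by rw [nrm_eq_top]) (by rw [nrm_eq_top]) le_top fun Y hWY hYX hY => ?_).trans ?_
    · exact hXW.2.2.2 Y (Subgroup.normalizer_eq_top_iff.1 (top_le_iff.1 hY)) hWY hYX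
    refine sSup_le ?_
    rintro P ⟨hP1, hP2, hP3, hP4⟩
    refine (le_sSup_minimal (L := L') hNL' hP1 hP3 (by rw [nrm_eq_top]; exact le_top)
      hL'N hP4).trans (sSup_le ?_)
    rintro Z ⟨hZ1, hZ2, hZ3, hZ4⟩
    exact le_sSup (hgood Z hZ1 (hZ2.trans hP2) hZ3 hZ4)
  refine quad_iSup (fun Z : 𝒵 => (Z : Subgroup G)) ?_ hXW.1.le
    ((commutator_mono le_rfl (hXQ.trans pCore_le_cen)).trans hXc)
    (by rw [nrm_eq_top]; exact mem_top u) (fun Z => Z.2.2.1) fun Z x hx => Z.2.2.2 x hx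
  rw [← sSup_eq_iSup']
  exact le_antisymm hXsup (sSup_le fun Z hZ => hZ.1)

end Cfsg.Agent.OddFocal.Three
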